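import Mathlib.GroupTheory.SpecificGroups.Quaternion
import Mathlib.Data.ZMod.Basic
import Mathlib.Tactic.Group
import Mathlib.Algebra.Group.Subgroup.Finite
import Mathlib.SetTheory.Cardinal.Finite

set_option autoImplicit false

/-!
Recognition of the quaternion group of order 8 by generators and relations.
-/

namespace Cfsg.Agent.Helper69

section Q8

variable {P : Type*} [Group P]

/-- The additive map `i ↦ a ^ i` from `ZMod 4`, for `a ^ 4 = 1`. -/
noncomputable def q8pow (a : P) (ha : a ^ 4 = 1) : ZMod (2 * 2) →+ Additive P :=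
  ZMod.lift (2 * 2) ⟨zmultiplesHom (Additive P) (Additive.ofMul a), by
    show ((2 * 2 : ℕ) : ℤ) • Additive.ofMul a = 0
    rw [natCast_zsmul, ← ofMul_pow]
    show Additive.ofMul (a ^ 4) = 0
    rw [ha]; rfl⟩

theorem q8pow_intCast (a : P) (ha : a ^ 4 = 1) (k : ℤ) :
    (q8pow a ha (k : ZMod (2 * 2))).toMul = a ^ k := by
  unfold q8pow
  rw [ZMod.lift_coe]
  show (k • Additive.ofMul a).toMul = a ^ k
  rfl

theorem q8pow_add (a : P) (ha : a ^ 4 = 1) (i j : ZMod (2 * 2)) :
    (q8pow a ha (i + j)).toMul = (q8pow a ha i).toMul * (q8pow a ha j).toMul := by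
  rw [map_add]; rfl

theorem q8pow_neg (a : P) (ha : a ^ 4 = 1) (i : ZMod (2 * 2)) :
    (q8pow a ha (-i)).toMul = ((q8pow a ha i).toMul)⁻¹ := by
  rw [map_neg]; rfl

theorem q8pow_zero (a : P) (ha : a ^ 4 = 1) : (q8pow a ha 0).toMul = 1 := by
  rw [map_zero]; rfl

theorem q8pow_one (a : P) (ha : a ^ 4 = 1) : (q8pow a ha 1).toMul = a := by
  have := q8pow_intCast a ha 1
  rw [Int.cast_one, zpow_one] at this
  exact this

theorem q8pow_two (a : P) (ha : a ^ 4 = 1) :
    (q8pow a ha ((2 : ℕ) : ZMod (2 * 2))).toMul = a ^ 2 := by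
  have := q8pow_intCast a ha ((2 : ℕ) : ℤ)
  rw [Int.cast_natCast, zpow_natCast] at this
  exact this

theorem q8pow_conj (a b : P) (ha : a ^ 4 = 1) (hba : b * a * b⁻¹ = a⁻¹) (i : ZMod (2 * 2)) :
    b * (q8pow a ha (-i)).toMul = (q8pow a ha i).toMul * b := by
  obtain ⟨k, rfl⟩ := ZMod.intCast_surjective i
  rw [← Int.cast_neg, q8pow_intCast, q8pow_intCast]
  have h1 : (b * a * b⁻¹) ^ (-k) = b * a ^ (-k) * b⁻¹ := conj_zpow
  rw [hba, inv_zpow, zpow_neg, inv_inv] at h1
  rw [h1]; group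

theorem q8pow_comm (a : P) (ha : a ^ 4 = 1) (i j : ZMod (2 * 2)) :
    (q8pow a ha i).toMul * (q8pow a ha j).toMul = (q8pow a ha j).toMul * (q8pow a ha i).toMul := by
  rw [← q8pow_add, ← q8pow_add, add_comm]

/-- The map from the quaternion group of order 8 determined by `a ↦ a`, `x ↦ b`. -/
noncomputable def q8map (a b : P) (ha : a ^ 4 = 1) : QuaternionGroup 2 → P
  | .a i => (q8pow a ha i).toMul
  | .xa i => b * (q8pow a ha i).toMul

theorem q8map_mul (a b : P) (ha : a ^ 4 = 1) (hb : b ^ 2 = a ^ 2) (hba : b * a * b⁻¹ = a⁻¹)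
    (x y : QuaternionGroup 2) : q8map a b ha (x * y) = q8map a b ha x * q8map a b ha y := by
  rcases x with i | i <;> rcases y with j | j
  · rw [QuaternionGroup.a_mul_a]
    show (q8pow a ha (i + j)).toMul = (q8pow a ha i).toMul * (q8pow a ha j).toMul
    exact q8pow_add a ha i j
  · rw [QuaternionGroup.a_mul_xa]
    show b * (q8pow a ha (j - i)).toMul = (q8pow a ha i).toMul * (b * (q8pow a ha j).toMul)
    rw [sub_eq_add_neg, add_comm, q8pow_add, ← mul_assoc, q8pow_conj a b ha hba i, mul_assoc]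
  · rw [QuaternionGroup.xa_mul_a]
    show b * (q8pow a ha (i + j)).toMul = b * (q8pow a ha i).toMul * (q8pow a ha j).toMul
    rw [q8pow_add, mul_assoc]
  · rw [QuaternionGroup.xa_mul_xa]
    show (q8pow a ha (((2 : ℕ) : ZMod (2 * 2)) + j - i)).toMul =
      b * (q8pow a ha i).toMul * (b * (q8pow a ha j).toMul)
    have h1 : b * (q8pow a ha i).toMul * (b * (q8pow a ha j).toMul) =
        b * ((q8pow a ha i).toMul * b) * (q8pow a ha j).toMul := by simp only [mul_assoc]
    rw [h1, ← q8pow_conj a b ha hba i, ← mul_assoc, ← pow_two b, hb, sub_eq_add_neg, q8pow_add,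
      q8pow_add, q8pow_two, mul_assoc, mul_assoc, q8pow_comm a ha j (-i)]

/-- A group of order 8 generated by `a`, `b` with `a ^ 4 = 1`, `b ^ 2 = a ^ 2` and
`b * a * b⁻¹ = a⁻¹` is the quaternion group. -/
theorem nonempty_mulEquiv_quaternionGroup_two [Finite P] (a b : P) (hcard : Nat.card P = 8)
    (hgen : Subgroup.closure {a, b} = ⊤) (ha : a ^ 4 = 1) (hb : b ^ 2 = a ^ 2)
    (hba : b * a * b⁻¹ = a⁻¹) : Nonempty (P ≃* QuaternionGroup 2) := by
  let f : QuaternionGroup 2 →* P :=
    { toFun := q8map a b ha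
      map_one' := by
        show q8map a b ha (QuaternionGroup.a 0) = 1
        exact q8pow_zero a ha
      map_mul' := q8map_mul a b ha hb hba }
  have hsurj : Function.Surjective f := by
    rw [← MonoidHom.range_eq_top, eq_top_iff, ← hgen, Subgroup.closure_le]
    intro x hx
    rcases hx with rfl | rfl
    · exact ⟨QuaternionGroup.a 1, q8pow_one x ha⟩
    · refine ⟨QuaternionGroup.xa 0, ?_⟩
      show x * (q8pow a ha 0).toMul = x
      rw [q8pow_zero, mul_one]
  have hcard' : Nat.card (QuaternionGroup 2) = Nat.card P := by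
    rw [hcard, Nat.card_eq_fintype_card, QuaternionGroup.card]
  have hbij : Function.Bijective f :=
    (Nat.bijective_iff_surjective_and_card f).mpr ⟨hsurj, hcard'⟩
  exact ⟨(MulEquiv.ofBijective f hbij).symm⟩

end Q8

end Cfsg.Agent.Helper69
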