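import Cfsg.Agent.Helper35.SZ
import Cfsg.Agent.Helper32.PSolvable

set_option autoImplicit false

/-!
Groups with a cyclic Sylow `p`-subgroup: subgroups of cyclic `p`-groups form a chain,
`p'`-automorphisms fixing a nontrivial element are trivial, normal `p`-complements.
-/

namespace Cfsg.Agent.Helper69

open Subgroup

section Cyclic

variable {G : Type*} [Group G]

/-- In a finite cyclic subgroup `P`, a subgroup `B ≤ P` contains every `z ∈ P` with
`z ^ |B| = 1`. -/
theorem mem_of_pow_card_eq_one {P : Subgroup G} [Finite P] (hc : IsCyclic P) (B : Subgroup G)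
    (hB : B ≤ P) (z : G) (hz : z ∈ P) (h : z ^ Nat.card B = 1) : z ∈ B := by
  classical
  let _ := Fintype.ofFinite P
  have hBfin : Finite B :=
    Finite.of_injective (Subgroup.inclusion hB) (Subgroup.inclusion_injective hB)
  have hpos : 0 < Nat.card B := Nat.card_pos
  let T : Finset P := Finset.univ.filter (fun a : P => a ^ Nat.card B = 1)
  have hT : T.card ≤ Nat.card B := IsCyclic.card_pow_eq_one_le hpos
  let Bf : Finset P := Finset.univ.filter (fun a : P => (a : G) ∈ B)
  have hsub : Bf ⊆ T := by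
    intro a ha
    rw [Finset.mem_filter] at ha ⊢
    refine ⟨Finset.mem_univ _, ?_⟩
    have h1 : (⟨(a : G), ha.2⟩ : B) ^ Nat.card B = 1 := pow_card_eq_one'
    have h2 : (a : G) ^ Nat.card B = 1 := congrArg Subtype.val h1
    apply Subtype.ext
    rw [Subgroup.coe_pow, h2]
    rfl
  have hBf : Bf.card = Nat.card B := by
    rw [← Nat.card_eq_finsetCard]
    apply Nat.card_congr
    exact { toFun := fun a => ⟨(a.1 : G), (Finset.mem_filter.mp a.2).2⟩
            invFun := fun b => ⟨⟨b.1, hB b.2⟩, Finset.mem_filter.mpr ⟨Finset.mem_univ _, b.2⟩⟩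
            left_inv := fun a => rfl
            right_inv := fun b => rfl }
  have heq : Bf = T := Finset.eq_of_subset_of_card_le hsub (by rw [hBf]; exact hT)
  have hzT : (⟨z, hz⟩ : P) ∈ T := by
    rw [Finset.mem_filter]
    exact ⟨Finset.mem_univ _, Subtype.ext (by simpa using h)⟩
  rw [← heq, Finset.mem_filter] at hzT
  exact hzT.2

/-- The subgroups of a finite cyclic `p`-subgroup form a chain. -/
theorem le_or_le_of_isCyclic_of_isPGroup {p : ℕ} [Fact p.Prime] {P : Subgroup G} [Finite P]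
    (hc : IsCyclic P) (hp : IsPGroup p P) (A B : Subgroup G) (hA : A ≤ P) (hB : B ≤ P) :
    A ≤ B ∨ B ≤ A := by
  have hAfin : Finite A :=
    Finite.of_injective (Subgroup.inclusion hA) (Subgroup.inclusion_injective hA)
  have hBfin : Finite B :=
    Finite.of_injective (Subgroup.inclusion hB) (Subgroup.inclusion_injective hB)
  obtain ⟨i, hi⟩ := (IsPGroup.iff_card).mp (hp.to_le hA)
  obtain ⟨j, hj⟩ := (IsPGroup.iff_card).mp (hp.to_le hB)
  have key : ∀ (A B : Subgroup G) (_ : A ≤ P) (hB : B ≤ P) (i j : ℕ), Nat.card A = p ^ i →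
      Nat.card B = p ^ j → i ≤ j → A ≤ B := by
    intro A B hA hB i j hi hj hij a ha
    have hAfin : Finite A :=
      Finite.of_injective (Subgroup.inclusion hA) (Subgroup.inclusion_injective hA)
    apply mem_of_pow_card_eq_one hc B hB a (hA ha)
    have h1 : a ^ Nat.card A = 1 := by
      have : (⟨a, ha⟩ : A) ^ Nat.card A = 1 := pow_card_eq_one'
      exact congrArg Subtype.val this
    rw [hj, ← Nat.sub_add_cancel hij, pow_add, pow_mul', ← hi, h1, one_pow]
  rcases le_total i j with hij | hij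
  · exact Or.inl (key A B hA hB i j hi hj hij)
  · exact Or.inr (key B A hB hA j i hj hi hij)

/-- Elements of a cyclic subgroup commute. -/
theorem commute_of_mem_cyclic {P : Subgroup G} (hc : IsCyclic P) {a b : G} (ha : a ∈ P)
    (hb : b ∈ P) : Commute a b := by
  have h := (inferInstance : IsMulCommutative P).is_comm.comm ⟨a, ha⟩ ⟨b, hb⟩
  exact congrArg Subtype.val h

/-- A `p`-element normalizing a Sylow `p`-subgroup lies in it. -/
theorem mem_sylow_of_mem_normalizer_of_pow {p : ℕ} [Fact p.Prime] (P : Sylow p G) (y : G)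
    (hy : y ∈ normalizer ((P : Subgroup G) : Set G)) (a : ℕ) (hya : y ^ (p ^ a) = 1) :
    y ∈ (P : Subgroup G) := by
  have hZ : IsPGroup p (Subgroup.zpowers y) := by
    obtain ⟨j, -, hj⟩ := (Nat.dvd_prime_pow Fact.out).mp (orderOf_dvd_of_pow_eq_one hya)
    exact IsPGroup.of_card (n := j) (by rw [Nat.card_zpowers, hj])
  have hle : Subgroup.zpowers y ≤ normalizer ((P : Subgroup G) : Set G) :=
    Subgroup.zpowers_le.mpr hy
  have hsup : IsPGroup p ↥((P : Subgroup G) ⊔ Subgroup.zpowers y) :=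
    IsPGroup.to_sup_of_normal_left' P.isPGroup' hZ hle
  have hmax := P.is_maximal' hsup le_sup_left
  have : y ∈ (P : Subgroup G) ⊔ Subgroup.zpowers y :=
    (le_sup_right : Subgroup.zpowers y ≤ _) (Subgroup.mem_zpowers _)
  rw [hmax] at this
  exact this

/-- An element `x` normalizing a cyclic `p`-subgroup `P`, some `p'`-power of which centralizes
`P`, and which centralizes a nontrivial element of `P`, centralizes `P`. -/
theorem commute_of_normalizes_cyclic {p : ℕ} [Fact p.Prime] {P : Subgroup G} [Finite P]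
    (hc : IsCyclic P) (hP : IsPGroup p P) (x : G) (hx : x ∈ normalizer (P : Set G)) (m : ℕ)
    (hm : m.Coprime p) (hxm : ∀ u ∈ P, Commute (x ^ m) u) (q : G) (hq : q ∈ P) (hq1 : q ≠ 1)
    (hxq : Commute x q) : ∀ u ∈ P, Commute x u := by
  have hpp : p.Prime := Fact.out
  -- the centralizer of `x` in `P`
  let D : Subgroup G := P ⊓ Subgroup.centralizer {x}
  have hDmem : ∀ u, u ∈ D ↔ u ∈ P ∧ Commute x u := by
    intro u
    show u ∈ P ∧ u ∈ Subgroup.centralizer {x} ↔ _
    rw [Subgroup.mem_centralizer_iff]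
    simp only [Set.mem_singleton_iff, forall_eq]
    rfl
  have hDP : D ≤ P := inf_le_left
  have hDfin : Finite D :=
    Finite.of_injective (Subgroup.inclusion hDP) (Subgroup.inclusion_injective hDP)
  have hDcard : p ∣ Nat.card D := by
    rcases (hP.to_le hDP).card_eq_or_dvd with h1 | h1
    · exfalso
      have : D = ⊥ := Subgroup.card_eq_one.mp h1
      have hqD : q ∈ D := (hDmem q).mpr ⟨hq, hxq⟩
      rw [this, Subgroup.mem_bot] at hqD
      exact hq1 hqD
    · exact h1
  have sub : ∀ z ∈ P, z ^ p = 1 → Commute x z := by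
    intro z hz hzp
    obtain ⟨t, ht⟩ := hDcard
    have : z ∈ D := mem_of_pow_card_eq_one hc D hDP z hz (by rw [ht, pow_mul, hzp, one_pow])
    exact ((hDmem z).mp this).2
  have main : ∀ j : ℕ, ∀ u ∈ P, u ^ (p ^ j) = 1 → Commute x u := by
    intro j
    induction j with
    | zero =>
      intro u _ hu
      rw [pow_zero, pow_one] at hu
      rw [hu]; exact Commute.one_right x
    | succ j ih =>
      intro u hu hupow
      have hup : Commute x (u ^ p) := by
        apply ih (u ^ p) (P.pow_mem hu p)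
        rw [← pow_mul, ← pow_succ']; exact hupow
      have hw : x * u * x⁻¹ ∈ P := (Subgroup.mem_normalizer_iff.mp hx u).mp hu
      obtain ⟨z, hzdef⟩ : ∃ z, z = u⁻¹ * (x * u * x⁻¹) := ⟨_, rfl⟩
      have hz : z ∈ P := by rw [hzdef]; exact P.mul_mem (P.inv_mem hu) hw
      have huz : Commute u z := commute_of_mem_cyclic hc hu hz
      have hwp : (x * u * x⁻¹) ^ p = u ^ p := by
        rw [conj_pow, hup.eq, mul_inv_cancel_right]
      have hwz : x * u * x⁻¹ = u * z := by rw [hzdef]; group
      have hzp : z ^ p = 1 := by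
        rw [hwz, huz.mul_pow] at hwp
        exact mul_left_cancel (a := u ^ p) (by rw [hwp, mul_one])
      have hxz : Commute x z := sub _ hz hzp
      have hxu : x * u = u * z * x := by rw [hzdef]; group
      have hk : ∀ k : ℕ, x ^ k * u = u * z ^ k * x ^ k := by
        intro k
        induction k with
        | zero => simp
        | succ k ihk =>
          have hc1 : Commute x (z ^ k) := hxz.pow_right k
          calc x ^ (k + 1) * u = x * (x ^ k * u) := by rw [pow_succ', mul_assoc]
            _ = x * (u * z ^ k * x ^ k) := by rw [ihk]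
            _ = (x * u) * z ^ k * x ^ k := by simp only [mul_assoc]
            _ = u * z * x * z ^ k * x ^ k := by rw [hxu]
            _ = u * z * (x * z ^ k) * x ^ k := by simp only [mul_assoc]
            _ = u * z * (z ^ k * x) * x ^ k := by rw [hc1.eq]
            _ = u * z ^ (k + 1) * x ^ (k + 1) := by
                rw [pow_succ' z k, pow_succ' x k]; simp only [mul_assoc]
      have hzm : z ^ m = 1 := by
        have h1 := hk m
        rw [(hxm u hu).eq, mul_assoc] at h1
        have h2 := mul_left_cancel h1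
        have h3 : 1 * x ^ m = z ^ m * x ^ m := by rw [one_mul]; exact h2
        exact (mul_right_cancel h3).symm
      have hz1 : z = 1 := by
        have h1 : z ^ Nat.gcd m p = 1 := pow_gcd_eq_one.mpr ⟨hzm, hzp⟩
        rw [Nat.Coprime.gcd_eq_one hm, pow_one] at h1
        exact h1
      have h2 : x * u * x⁻¹ = u := by rw [hwz, hz1, mul_one]
      show x * u = u * x
      calc x * u = x * u * x⁻¹ * x := by group
        _ = u * x := by rw [h2]
  intro u hu
  obtain ⟨k, hk⟩ := hP ⟨u, hu⟩
  have h1 : u ^ (p ^ k) = 1 := by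
    have := congrArg Subtype.val hk
    simpa using this
  exact main k u hu h1

/-- In a finite group with a cyclic Sylow `p`-subgroup `P`, an element normalizing `P` and
centralizing a nontrivial element of `P` centralizes `P`. -/
theorem commute_of_mem_normalizer_cyclic_sylow [Finite G] {p : ℕ} [Fact p.Prime] (P : Sylow p G)
    (hc : IsCyclic (P : Subgroup G)) (y : G) (hy : y ∈ normalizer ((P : Subgroup G) : Set G))
    (q : G) (hq : q ∈ (P : Subgroup G)) (hq1 : q ≠ 1) (hyq : Commute y q) :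
    ∀ u ∈ (P : Subgroup G), Commute y u := by
  have hpp : p.Prime := Fact.out
  have hn : orderOf y ≠ 0 := (orderOf_pos y).ne'
  obtain ⟨a, k, hk, hak⟩ := Nat.exists_eq_pow_mul_and_not_dvd hn p hpp.ne_one
  have hykP : y ^ k ∈ (P : Subgroup G) := by
    apply mem_sylow_of_mem_normalizer_of_pow P (y ^ k) (Subgroup.pow_mem _ hy k) a
    rw [← pow_mul, mul_comm, ← hak, pow_orderOf_eq_one]
  exact commute_of_normalizes_cyclic hc P.isPGroup' y hy k
    ((Nat.coprime_comm.mp ((Nat.Prime.coprime_iff_not_dvd hpp).mpr hk)))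
    (fun u hu => commute_of_mem_cyclic hc hykP hu) q hq hq1 hyq

end Cyclic

section Complement

variable {p : ℕ} [Fact p.Prime]

/-- A normal complement `N` of a Sylow `p`-subgroup contains every element of order prime
to `p`. -/
theorem mem_of_isComplement'_of_pow {X : Type*} [Group X] [Finite X] (N : Subgroup X) [N.Normal]
    (S : Sylow p X) (h : N.IsComplement' (S : Subgroup X)) (c : X) (t : ℕ) (ht : t.Coprime p)
    (hc : c ^ t = 1) : c ∈ N := by
  have hidx : N.index = Nat.card (S : Subgroup X) := h.symm.index_eq_card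
  obtain ⟨a, ha⟩ := IsPGroup.iff_card.mp S.isPGroup'
  have h1 : orderOf (QuotientGroup.mk' N c) ∣ p ^ a := by
    rw [← ha, ← hidx, Subgroup.index_eq_card]; exact orderOf_dvd_natCard _
  have h2 : orderOf (QuotientGroup.mk' N c) ∣ t :=
    (orderOf_map_dvd (QuotientGroup.mk' N) c).trans (orderOf_dvd_of_pow_eq_one hc)
  have h3 : orderOf (QuotientGroup.mk' N c) = 1 :=
    Nat.eq_one_of_dvd_coprimes (Nat.Coprime.pow_right a ht) h2 h1
  rw [orderOf_eq_one_iff] at h3
  exact (QuotientGroup.eq_one_iff c).mp h3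

variable {G : Type*} [Group G] [Finite G]

/-- The image in `G` of a normal `p`-complement of a normal subgroup `X` is normal in `G`. -/
theorem normal_map_of_isComplement' (X : Subgroup G) [hX : X.Normal] (N : Subgroup X) [N.Normal]
    (S : Sylow p X) (h : N.IsComplement' (S : Subgroup X)) : (N.map X.subtype).Normal := by
  refine ⟨fun k hk g => ?_⟩
  obtain ⟨n, hn, rfl⟩ := hk
  have hcX : g * (n : G) * g⁻¹ ∈ X := hX.conj_mem _ n.2 g
  have ht : (Nat.card N).Coprime p := by
    rw [← h.index_eq_card]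
    exact (Nat.coprime_comm.mp ((Nat.Prime.coprime_iff_not_dvd Fact.out).mpr S.not_dvd_index))
  have hn1 : (n : G) ^ Nat.card N = 1 := by
    have h1 : (⟨n, hn⟩ : N) ^ Nat.card N = 1 := pow_card_eq_one'
    exact congrArg (fun z : N => ((z : X) : G)) h1
  have hpow : (⟨g * (n : G) * g⁻¹, hcX⟩ : X) ^ Nat.card N = 1 := by
    apply Subtype.ext
    rw [Subgroup.coe_pow]
    show (g * (n : G) * g⁻¹) ^ Nat.card N = 1
    rw [conj_pow, hn1, mul_one, mul_inv_cancel]
  have := mem_of_isComplement'_of_pow N S h _ _ ht hpow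
  exact ⟨_, this, rfl⟩

/-- Burnside's normal `p`-complement theorem, for a subgroup `X` and with the hypothesis stated
in the ambient group. -/
theorem exists_normal_complement_of_centralizes (X : Subgroup G) (S : Sylow p X)
    (h : ∀ y ∈ X, y ∈ normalizer ((((S : Subgroup X).map X.subtype : Subgroup G)) : Set G) →
      ∀ q ∈ (S : Subgroup X).map X.subtype, Commute y q) :
    ∃ N : Subgroup X, N.Normal ∧ N.IsComplement' (S : Subgroup X) := by
  have hP : normalizer ((S : Subgroup X) : Set X) ≤ centralizer ((S : Subgroup X) : Set X) := by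
    intro y hy
    rw [Subgroup.mem_centralizer_iff]
    intro s hs
    have hyN : (y : G) ∈ normalizer ((((S : Subgroup X).map X.subtype : Subgroup G)) : Set G) := by
      rw [Subgroup.mem_normalizer_iff]
      intro g
      constructor
      · rintro ⟨s', hs', rfl⟩
        exact ⟨y * s' * y⁻¹, (Subgroup.mem_normalizer_iff.mp hy s').mp hs', rfl⟩
      · rintro ⟨s', hs', hs'g⟩
        refine ⟨y⁻¹ * s' * y, ?_, ?_⟩
        · have h1 := (Subgroup.mem_normalizer_iff.mp hy (y⁻¹ * s' * y))
          apply h1.mpr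
          have h2 : y * (y⁻¹ * s' * y) * y⁻¹ = s' := by group
          rw [h2]; exact hs'
        · have h3 : (s' : G) = (y : G) * g * (y : G)⁻¹ := hs'g
          show (y : G)⁻¹ * (s' : G) * (y : G) = g
          rw [h3]; group
    have := h y y.2 hyN s ⟨s, hs, rfl⟩
    exact Subtype.ext this.eq.symm
  exact ⟨_, inferInstance, MonoidHom.ker_transferSylow_isComplement' S hP⟩

end Complement

section Main

open scoped Pointwise

variable {p : ℕ} [Fact p.Prime] {G : Type*} [Group G] [Finite G]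

/-- Let `P` be a cyclic Sylow `p`-subgroup of `G`, `H` a normal subgroup and `S` a Sylow
`p`-subgroup of `H` whose image `Q` is properly contained in `P`. Then every element of `H`
normalizing `Q` centralizes `Q`. -/
theorem commute_of_cyclic_sylow_normal (P : Sylow p G) (hc : IsCyclic (P : Subgroup G))
    (H : Subgroup G) [hH : H.Normal] (S : Sylow p H)
    (hQP : (S : Subgroup H).map H.subtype ≤ (P : Subgroup G))
    (hne : (S : Subgroup H).map H.subtype ≠ (P : Subgroup G)) :
    ∀ y ∈ H, y ∈ normalizer ((((S : Subgroup H).map H.subtype : Subgroup G)) : Set G) →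
      ∀ q ∈ (S : Subgroup H).map H.subtype, Commute y q := by
  classical
  have hpp : p.Prime := Fact.out
  obtain ⟨Q, hQdef⟩ : ∃ Q : Subgroup G, Q = (S : Subgroup H).map H.subtype := ⟨_, rfl⟩
  rw [← hQdef] at hQP hne ⊢
  have hQH : Q ≤ H := by rw [hQdef]; exact Subgroup.map_subtype_le _
  have hQcomm : ∀ a ∈ Q, ∀ b ∈ Q, Commute a b :=
    fun a ha b hb => commute_of_mem_cyclic hc (hQP ha) (hQP hb)
  have hPN : (P : Subgroup G) ≤ normalizer (Q : Set G) := by
    intro u hu
    rw [Subgroup.mem_normalizer_iff]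
    intro g
    constructor
    · intro hg
      have : u * g * u⁻¹ = g := by
        rw [(commute_of_mem_cyclic hc hu (hQP hg)).eq, mul_inv_cancel_right]
      rw [this]; exact hg
    · intro hg
      have h1 : Commute u (u * g * u⁻¹) := commute_of_mem_cyclic hc hu (hQP hg)
      have h2 : u * (u * g * u⁻¹) = u * g := by rw [h1.eq]; group
      have : g = u * g * u⁻¹ := (mul_left_cancel h2).symm
      rw [this]; exact hg
  obtain ⟨K, hKdef⟩ : ∃ K : Subgroup G, K = normalizer (Q : Set G) ⊓ H := ⟨_, rfl⟩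
  have hQK : Q ≤ K := by rw [hKdef]; exact le_inf Subgroup.le_normalizer hQH
  have hKN : K ≤ normalizer (Q : Set G) := by rw [hKdef]; exact inf_le_left
  have hKH : K ≤ H := by rw [hKdef]; exact inf_le_right
  have hQKn : (Q.subgroupOf K).Normal := Subgroup.normal_subgroupOf_of_le_normalizer hKN
  have hQKc : IsMulCommutative (Q.subgroupOf K) :=
    ⟨⟨fun a b => Subtype.ext (Subtype.ext (hQcomm a.1.1 a.2 b.1.1 b.2).eq)⟩⟩
  have hQcard : Nat.card (Q.subgroupOf K) = Nat.card Q :=
    Cfsg.Agent.Helper35.card_subgroupOf_of_le hQK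
  have hQp : IsPGroup p Q := by rw [hQdef]; exact S.isPGroup'.map H.subtype
  obtain ⟨a, ha⟩ := IsPGroup.iff_card.mp hQp
  have hidx : ¬ p ∣ (Q.subgroupOf K).index := by
    intro hdvd
    have h1 : Q.relIndex K * K.relIndex H = Q.relIndex H :=
      Subgroup.relIndex_mul_relIndex Q K H hQK hKH
    have h2 : Q.relIndex H = (S : Subgroup H).index := by
      show (Q.subgroupOf H).index = _
      congr 1
      rw [hQdef]
      exact Subgroup.comap_map_eq_self_of_injective H.subtype_injective _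
    have h3 : p ∣ (S : Subgroup H).index := by
      rw [← h2, ← h1]; exact Dvd.dvd.mul_right hdvd _
    exact S.not_dvd_index h3
  have hcop : (Nat.card (Q.subgroupOf K)).Coprime (Q.subgroupOf K).index := by
    rw [hQcard, ha]
    exact Nat.Coprime.pow_left a ((Nat.Prime.coprime_iff_not_dvd hpp).mpr hidx)
  obtain ⟨R₀, hR₀⟩ := Subgroup.exists_right_complement'_of_coprime hcop
  obtain ⟨R, hRdef⟩ : ∃ R : Subgroup G, R = R₀.map K.subtype := ⟨_, rfl⟩
  have hRK : R ≤ K := by rw [hRdef]; exact Subgroup.map_subtype_le _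
  have hRsub : R.subgroupOf K = R₀ := by
    rw [hRdef]; exact Subgroup.comap_map_eq_self_of_injective K.subtype_injective _
  have hQR : Q ⊓ R = ⊥ := by
    rw [eq_bot_iff]
    intro g hg
    obtain ⟨hgQ, hgR⟩ := hg
    rw [hRdef] at hgR
    obtain ⟨r, hr, rfl⟩ := hgR
    have : r ∈ Q.subgroupOf K ⊓ R₀ := ⟨hgQ, hr⟩
    rw [Cfsg.Agent.Helper35.inf_eq_bot_of_isComplement' hR₀, Subgroup.mem_bot] at this
    rw [Subgroup.mem_bot, this]; rfl
  have hKQR : ∀ k ∈ K, ∃ q ∈ Q, ∃ r ∈ R, k = q * r := by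
    intro k hk
    obtain ⟨n, hn, x, hx, hkx⟩ := Cfsg.Agent.Helper35.exists_mul_of_isComplement' hR₀ ⟨k, hk⟩
    refine ⟨n, hn, x, ?_, congrArg Subtype.val hkx⟩
    rw [hRdef]; exact ⟨x, hx, rfl⟩
  -- a generator of `P`
  obtain ⟨g₀, hg₀⟩ := hc.exists_generator
  obtain ⟨u, hudef⟩ : ∃ u : G, u = (g₀ : G) := ⟨_, rfl⟩
  have huP : u ∈ (P : Subgroup G) := by rw [hudef]; exact g₀.2
  have hPu : ∀ B : Subgroup G, u ∈ B → (P : Subgroup G) ≤ B := by
    intro B hB x hx
    obtain ⟨k, hk⟩ := Subgroup.mem_zpowers_iff.mp (hg₀ ⟨x, hx⟩)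
    have h1 : u ^ k = x := by
      rw [hudef]
      have := congrArg Subtype.val hk
      rw [Subgroup.coe_zpow] at this
      exact this
    rw [← h1]; exact B.zpow_mem hB k
  have huN : u ∈ normalizer (Q : Set G) := hPN huP
  have hRu : MulAut.conj u • R ≤ K := by
    intro x hx
    rw [Cfsg.Agent.Helper35.mem_conj_smul] at hx
    have hx' : x = u * (u⁻¹ * x * u) * u⁻¹ := by group
    rw [hx', hKdef]
    refine ⟨?_, hH.conj_mem _ (hKH (hRK hx)) u⟩
    exact (normalizer (Q : Set G)).mul_mem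
      ((normalizer (Q : Set G)).mul_mem huN (hKN (hRK hx))) ((normalizer (Q : Set G)).inv_mem huN)
  obtain ⟨R₁, hR₁def⟩ : ∃ R₁ : Subgroup K, R₁ = (MulAut.conj u • R).subgroupOf K := ⟨_, rfl⟩
  have hR₁card : Nat.card R₁ = Nat.card R₀ := by
    rw [hR₁def, Cfsg.Agent.Helper35.card_subgroupOf_of_le hRu,
      Cfsg.Agent.Helper35.card_conj_smul, hRdef]
    exact Subgroup.card_map_of_injective K.subtype_injective
  have hR₁ : (Q.subgroupOf K).IsComplement' R₁ := by
    apply Subgroup.isComplement'_of_coprime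
    · rw [hR₁card]; exact hR₀.card_mul_card
    · rw [hR₁card, ← Cfsg.Agent.Helper35.index_eq_card_of_isComplement' hR₀]; exact hcop
  obtain ⟨a₀, ha₀, hconj⟩ :=
    Cfsg.Agent.Helper35.sz_conj_abelian (Q.subgroupOf K) hcop R₀ R₁ hR₀ hR₁
  have hconjG : MulAut.conj (a₀ : G) • R = MulAut.conj u • R := by
    have h1 : MulAut.conj a₀ • (R.subgroupOf K) = (MulAut.conj u • R).subgroupOf K := by
      rw [hRsub, ← hR₁def]; exact hconj
    exact Cfsg.Agent.Helper35.conj_smul_eq_of_subgroupOf hRK hRu a₀ h1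
  obtain ⟨n, hndef⟩ : ∃ n : G, n = (a₀ : G)⁻¹ * u := ⟨_, rfl⟩
  have hnR : n ∈ normalizer (R : Set G) := by
    rw [Cfsg.Agent.Helper35.mem_normalizer_iff_conj_smul_eq, hndef,
      ← Cfsg.Agent.Helper35.conj_smul_conj_smul, ← hconjG,
      Cfsg.Agent.Helper35.conj_smul_conj_smul, inv_mul_cancel]
    simp
  have ha₀Q : (a₀ : G) ∈ Q := ha₀
  have hnP : n ∈ (P : Subgroup G) := by
    rw [hndef]
    exact (P : Subgroup G).mul_mem ((P : Subgroup G).inv_mem (hQP ha₀Q)) huP
  have hQn : Q ≤ Subgroup.zpowers n := by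
    rcases le_or_le_of_isCyclic_of_isPGroup hc P.isPGroup' (Subgroup.zpowers n) Q
      (Subgroup.zpowers_le.mpr hnP) hQP with h1 | h1
    · exfalso
      have hnQ : n ∈ Q := h1 (Subgroup.mem_zpowers n)
      have huQ : u ∈ Q := by
        have : u = (a₀ : G) * n := by rw [hndef]; group
        rw [this]; exact Q.mul_mem ha₀Q hnQ
      exact hne (le_antisymm hQP (hPu Q huQ))
    · exact h1
  have hQNR : Q ≤ normalizer (R : Set G) := hQn.trans (Subgroup.zpowers_le.mpr hnR)
  have hcomm : ∀ q ∈ Q, ∀ r ∈ R, Commute q r := by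
    intro q hq r hr
    have h1 : q * r * q⁻¹ * r⁻¹ ∈ R :=
      R.mul_mem ((Subgroup.mem_normalizer_iff.mp (hQNR hq) r).mp hr) (R.inv_mem hr)
    have h2 : q * r * q⁻¹ * r⁻¹ ∈ Q := by
      have : r * q⁻¹ * r⁻¹ ∈ Q :=
        (Subgroup.mem_normalizer_iff.mp (hKN (hRK hr)) q⁻¹).mp (Q.inv_mem hq)
      have h3 : q * r * q⁻¹ * r⁻¹ = q * (r * q⁻¹ * r⁻¹) := by group
      rw [h3]; exact Q.mul_mem hq this
    have h3 : q * r * q⁻¹ * r⁻¹ ∈ Q ⊓ R := ⟨h2, h1⟩
    rw [hQR, Subgroup.mem_bot] at h3
    show q * r = r * q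
    have h4 : q * r = (q * r * q⁻¹ * r⁻¹) * (r * q) := by group
    rw [h4, h3, one_mul]
  intro y hyH hyN q hq
  obtain ⟨q₀, hq₀, r₀, hr₀, rfl⟩ := hKQR y (by rw [hKdef]; exact ⟨hyN, hyH⟩)
  exact (hQcomm q₀ hq₀ q hq).mul_left ((hcomm q hq r₀ hr₀).symm)

/-- If one Sylow `p`-subgroup is cyclic, every `p`-subgroup lies in a cyclic Sylow
`p`-subgroup. -/
theorem exists_cyclic_sylow_ge (P : Sylow p G) (hc : IsCyclic (P : Subgroup G)) (Q : Subgroup G)
    (hQ : IsPGroup p Q) : ∃ P₁ : Sylow p G, IsCyclic (P₁ : Subgroup G) ∧ Q ≤ P₁ := by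
  obtain ⟨P₁, hP₁⟩ := hQ.exists_le_sylow
  obtain ⟨g, rfl⟩ := MulAction.exists_smul_eq G P P₁
  refine ⟨g • P, ?_, hP₁⟩
  exact isCyclic_of_surjective (P.equivSMul g) (P.equivSMul g).surjective

/-- A normal subgroup `H` of index divisible by `p` in a group with cyclic Sylow
`p`-subgroups has a normal `p`-complement. -/
theorem exists_normal_complement_of_cyclic_sylow (P : Sylow p G) (hc : IsCyclic (P : Subgroup G))
    (H : Subgroup G) [hH : H.Normal] (S : Sylow p H) (h2 : p ∣ H.index) :
    ∃ N : Subgroup H, N.Normal ∧ N.IsComplement' (S : Subgroup H) := by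
  obtain ⟨P₁, hc₁, hQP₁⟩ := exists_cyclic_sylow_ge P hc ((S : Subgroup H).map H.subtype)
    (S.isPGroup'.map H.subtype)
  have hne : (S : Subgroup H).map H.subtype ≠ (P₁ : Subgroup G) := by
    intro heq
    have hle : (P₁ : Subgroup G) ≤ H := by rw [← heq]; exact Subgroup.map_subtype_le _
    exact P₁.not_dvd_index (h2.trans (Subgroup.index_dvd_of_le hle))
  exact exists_normal_complement_of_centralizes H S
    (commute_of_cyclic_sylow_normal P₁ hc₁ H S hQP₁ hne)

/-- A finite group with a cyclic Sylow `p`-subgroup and a normal subgroup `H` such that `p`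
divides both the order and the index of `H` is `p`-solvable. -/
theorem isPSolvable_of_cyclic_sylow (P : Sylow p G) (hc : IsCyclic (P : Subgroup G))
    (H : Subgroup G) [hH : H.Normal] (h1 : p ∣ Nat.card H) (h2 : p ∣ H.index) :
    Cfsg.IsPSolvable p G := by
  classical
  have hpp : p.Prime := Fact.out
  obtain ⟨S⟩ : Nonempty (Sylow p H) := inferInstance
  obtain ⟨P₁, hc₁, hQP₁⟩ := exists_cyclic_sylow_ge P hc ((S : Subgroup H).map H.subtype)
    (S.isPGroup'.map H.subtype)
  obtain ⟨M₀, hM₀n, hM₀⟩ := exists_normal_complement_of_cyclic_sylow P hc H S h2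
  obtain ⟨M, hMdef⟩ : ∃ M : Subgroup G, M = M₀.map H.subtype := ⟨_, rfl⟩
  have hMn : M.Normal := by rw [hMdef]; exact normal_map_of_isComplement' H M₀ S hM₀
  have hMcard : (Nat.card M).Coprime p := by
    rw [hMdef, Subgroup.card_map_of_injective H.subtype_injective, ← hM₀.index_eq_card]
    exact (Nat.coprime_comm.mp ((Nat.Prime.coprime_iff_not_dvd hpp).mpr S.not_dvd_index))
  -- the centralizer of `H` modulo `M`
  have hHMn : (H.map (QuotientGroup.mk' M)).Normal :=
    Subgroup.Normal.map hH _ (QuotientGroup.mk'_surjective M)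
  obtain ⟨C, hCdef⟩ : ∃ C : Subgroup G, C = (centralizer
      ((H.map (QuotientGroup.mk' M) : Subgroup (G ⧸ M)) : Set (G ⧸ M))).comap
        (QuotientGroup.mk' M) := ⟨_, rfl⟩
  have hCn : C.Normal := by
    rw [hCdef]; exact Subgroup.Normal.comap inferInstance _
  have hCmem : ∀ g, g ∈ C ↔ ∀ h ∈ H,
      QuotientGroup.mk' M h * QuotientGroup.mk' M g =
        QuotientGroup.mk' M g * QuotientGroup.mk' M h := by
    intro g
    rw [hCdef, Subgroup.mem_comap, Subgroup.mem_centralizer_iff]
    constructor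
    · intro hg h hh
      exact hg _ ⟨h, hh, rfl⟩
    · rintro hg x ⟨h, hh, rfl⟩
      exact hg h hh
  have hP₁C : (P₁ : Subgroup G) ≤ C := by
    intro u hu
    rw [hCmem]
    intro h hh
    obtain ⟨n, hn, x, hx, hkx⟩ := Cfsg.Agent.Helper35.exists_mul_of_isComplement' hM₀ ⟨h, hh⟩
    have hnx : h = (n : G) * (x : G) := congrArg Subtype.val hkx
    have hnM : (n : G) ∈ M := by rw [hMdef]; exact ⟨n, hn, rfl⟩
    have hxP : (x : G) ∈ (P₁ : Subgroup G) := hQP₁ ⟨x, hx, rfl⟩
    have hcomm : Commute (x : G) u := commute_of_mem_cyclic hc₁ hxP hu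
    have e1 : QuotientGroup.mk' M (n : G) = 1 := (QuotientGroup.eq_one_iff _).mpr hnM
    rw [hnx, map_mul, e1, one_mul, ← map_mul, hcomm.eq, map_mul]
  obtain ⟨S_C, hS_Cdef⟩ : ∃ S_C : Sylow p C, S_C = P₁.subtype hP₁C := ⟨_, rfl⟩
  have hSC : (S_C : Subgroup C).map C.subtype = (P₁ : Subgroup G) := by
    rw [hS_Cdef, Sylow.coe_subtype, Subgroup.subgroupOf_map_subtype, inf_eq_left.mpr hP₁C]
  -- a nontrivial element of `Q`
  have hSne : (S : Subgroup H) ≠ ⊥ := S.ne_bot_of_dvd_card h1
  obtain ⟨s, hs⟩ := (Subgroup.ne_bot_iff_exists_ne_one).mp hSne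
  obtain ⟨q, hqdef⟩ : ∃ q : G, q = ((s : H) : G) := ⟨_, rfl⟩
  have hqH : q ∈ H := by rw [hqdef]; exact (s : H).2
  have hqP : q ∈ (P₁ : Subgroup G) := by rw [hqdef]; exact hQP₁ ⟨s.1, s.2, rfl⟩
  have hq1 : q ≠ 1 := by
    intro h
    apply hs
    apply Subtype.ext
    apply Subtype.ext
    rw [← hqdef, h]; rfl
  have hB : ∀ y ∈ C, y ∈ normalizer ((((S_C : Subgroup C).map C.subtype : Subgroup G)) : Set G) →
      ∀ q' ∈ (S_C : Subgroup C).map C.subtype, Commute y q' := by
    rw [hSC]
    intro y hyC hyN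
    apply commute_of_mem_normalizer_cyclic_sylow P₁ hc₁ y hyN q hqP hq1
    have hc1 : y * q * y⁻¹ * q⁻¹ ∈ (P₁ : Subgroup G) :=
      mul_mem ((Subgroup.mem_normalizer_iff.mp hyN q).mp hqP) (inv_mem hqP)
    have hc2 : y * q * y⁻¹ * q⁻¹ ∈ M := by
      apply (QuotientGroup.eq_one_iff _).mp
      have h3 := (hCmem y).mp hyC q hqH
      show QuotientGroup.mk' M (y * q * y⁻¹ * q⁻¹) = 1
      rw [map_mul, map_mul, map_mul, map_inv, map_inv, ← h3]
      group
    have hc3 : y * q * y⁻¹ * q⁻¹ = 1 := by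
      obtain ⟨k, hk⟩ := P₁.isPGroup' ⟨_, hc1⟩
      have hk' : (y * q * y⁻¹ * q⁻¹) ^ (p ^ k) = 1 := congrArg Subtype.val hk
      have hm' : (y * q * y⁻¹ * q⁻¹) ^ Nat.card M = 1 := by
        have h1 : (⟨_, hc2⟩ : M) ^ Nat.card M = 1 := pow_card_eq_one'
        exact congrArg Subtype.val h1
      have h3 : (y * q * y⁻¹ * q⁻¹) ^ Nat.gcd (Nat.card M) (p ^ k) = 1 :=
        pow_gcd_eq_one.mpr ⟨hm', hk'⟩
      rw [Nat.Coprime.gcd_eq_one (Nat.Coprime.pow_right k hMcard), pow_one] at h3
      exact h3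
    show y * q = q * y
    have h4 : y * q = (y * q * y⁻¹ * q⁻¹) * (q * y) := by group
    rw [h4, hc3, one_mul]
  obtain ⟨K₀, hK₀n, hK₀⟩ := exists_normal_complement_of_centralizes C S_C hB
  obtain ⟨K, hKdef⟩ : ∃ K : Subgroup G, K = K₀.map C.subtype := ⟨_, rfl⟩
  have hKn : K.Normal := by rw [hKdef]; exact normal_map_of_isComplement' C K₀ S_C hK₀
  have hKC : K ≤ C := by rw [hKdef]; exact Subgroup.map_subtype_le _
  have hi1 : (Nat.card K).Coprime p := by
    rw [hKdef, Subgroup.card_map_of_injective C.subtype_injective, ← hK₀.index_eq_card]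
    exact (Nat.coprime_comm.mp ((Nat.Prime.coprime_iff_not_dvd hpp).mpr S_C.not_dvd_index))
  have hi2 : ∃ m : ℕ, K.relIndex C = p ^ m := by
    obtain ⟨a, ha⟩ := IsPGroup.iff_card.mp S_C.isPGroup'
    refine ⟨a, ?_⟩
    have : K.subgroupOf C = K₀ := by
      rw [hKdef]; exact Subgroup.comap_map_eq_self_of_injective C.subtype_injective _
    show (K.subgroupOf C).index = p ^ a
    rw [this, hK₀.symm.index_eq_card, ha]
  have hi3 : (C.index).Coprime p := by
    have h1 : C.index ∣ (P₁ : Subgroup G).index := Subgroup.index_dvd_of_le hP₁C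
    rw [Nat.coprime_comm, Nat.Prime.coprime_iff_not_dvd hpp]
    exact fun h => P₁.not_dvd_index (h.trans h1)
  rw [Cfsg.Agent.Helper32.isPSolvable_iff_chain]
  refine ⟨3, fun k => if k = 0 then ⊥ else if k = 1 then K else if k = 2 then C else ⊤, ?_⟩
  unfold Cfsg.Agent.Helper32.PSolChain
  refine ⟨?_, ?_, ?_, ?_, ?_⟩
  · simp
  · simp
  · intro k hk
    interval_cases k
    · simp
    · simpa using hKC
    · simp
  · intro k
    show (if k = 0 then ⊥ else if k = 1 then K else if k = 2 then C else ⊤ : Subgroup G).Normal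
    split_ifs
    · infer_instance
    · exact hKn
    · exact hCn
    · infer_instance
  · intro k hk
    interval_cases k
    · right
      simpa [Subgroup.relIndex_bot_left] using hi1
    · left
      simpa using hi2
    · right
      simpa [Subgroup.relIndex_top_right] using hi3

end Main

end Cfsg.Agent.Helper69
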