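/-
helper69: CALL S1351C piece PM (helper49).
-/
import Cfsg.Agent.Helper49.BGCDefs2
import Cfsg.Agent.Helper24.BG13V
import Cfsg.Agent.Helper23.Trans

set_option autoImplicit false

namespace Cfsg.Agent.Helper69

open Cfsg Subgroup
open Cfsg.Agent.Helper49

universe u

variable {G : Type u} [Group G] [Finite G]

/-- PM. A prime of `|W|` is in `σ(M)` or is the order of a subgroup of `E`. -/
theorem starc_prime_mem {M E P : Subgroup G} {p : ℕ} (c : StarCtx M E P p)
    (hmem : ∀ w : G, w ∈ starW M E ↔ ∃ z ∈ starZ M E, ∃ e ∈ E, w = z * e) :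
    ∀ q : ℕ, q.Prime → q ∣ Nat.card (starW M E) →
      q ∈ sigma M ∨ ∃ Y : Subgroup G, Y ≤ E ∧ Nat.card Y = q := by
  intro q hq hdvd
  have : Fact q.Prime := ⟨hq⟩
  obtain ⟨w, hw⟩ := exists_prime_orderOf_dvd_card' q hdvd
  have hwW : (w : G) ∈ starW M E := w.2
  obtain ⟨z, hz, e, he, hwze⟩ := (hmem w).1 hwW
  have hzσ : z ∈ sigmaCore M := (inf_le_left : starZ M E ≤ sigmaCore M) hz
  have hzc : z ∈ centralizer (E : Set G) := (inf_le_right : starZ M E ≤ _) hz
  have hcomm : e * z = z * e := hzc e he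
  have hwG : orderOf (w : G) = q := by rw [Subgroup.orderOf_coe]; exact hw
  have hwq : (w : G) ^ q = 1 := by rw [← hwG]; exact pow_orderOf_eq_one _
  have hmul : z ^ q * e ^ q = 1 := by
    rw [← (Commute.mul_pow (show Commute z e from hcomm.symm) q), ← hwze]; exact hwq
  have hzq_mem : z ^ q ∈ E ⊓ sigmaCore M := by
    refine ⟨?_, (sigmaCore M).pow_mem hzσ q⟩
    have : z ^ q = (e ^ q)⁻¹ := eq_inv_of_mul_eq_one_left hmul
    rw [this]; exact E.inv_mem (E.pow_mem he q)
  have hzq : z ^ q = 1 := by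
    have := c.compl.2.2.1 ▸ hzq_mem
    simpa using this
  have heq : e ^ q = 1 := by rw [hzq, one_mul] at hmul; exact hmul
  by_cases he1 : e = 1
  · left
    have hwz : (w : G) = z := by rw [hwze, he1, mul_one]
    have hoz : orderOf z = q := by rw [← hwz]; exact hwG
    have hdvd' : q ∣ Nat.card (sigmaCore M) := by
      have := orderOf_dvd_natCard (⟨z, hzσ⟩ : sigmaCore M)
      rw [Subgroup.orderOf_mk, hoz] at this
      exact this
    exact Helper23.mem_of_dvd_card_piCoreOf (sigma M) M hq hdvd'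
  · right
    refine ⟨zpowers e, by rw [zpowers_le]; exact he, ?_⟩
    rw [Nat.card_zpowers]
    exact orderOf_eq_prime heq he1

end Cfsg.Agent.Helper69
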