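import Mathlib

set_option autoImplicit false

/-!
General-purpose lemmas about conjugacy classes, centralizers and counting,
used by several statements of helper69.
-/

namespace Cfsg.Agent.Helper69

/-- The index of the centralizer of `x` is the number of conjugates of `x`. -/
theorem index_centralizer_eq_card_conj {G : Type*} [Group G] (x : G) :
    (Subgroup.centralizer ({x} : Set G)).index = Nat.card {y : G // IsConj x y} := by
  have h1 : (MulAction.stabilizer (ConjAct G) x).index = Nat.card {y : G // IsConj x y} := by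
    rw [MulAction.index_stabilizer, ← Nat.card_coe_set_eq]
    apply Nat.card_congr
    refine Equiv.subtypeEquivRight ?_
    intro y
    rw [ConjAct.mem_orbit_conjAct, isConj_comm]
  rw [← h1]
  have h2 := Subgroup.index_comap_of_surjective (MulAction.stabilizer (ConjAct G) x)
    (f := (ConjAct.toConjAct (G := G)).toMonoidHom) (ConjAct.toConjAct (G := G)).surjective
  rw [← h2]
  congr 1
  exact Subgroup.centralizer_eq_comap_stabilizer x

/-- An involution without fixed points on a finset forces an even cardinality. -/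
theorem even_card_of_involution {α : Type*} [DecidableEq α] (s : Finset α) (f : α → α)
    (hmem : ∀ a ∈ s, f a ∈ s) (hinv : ∀ a ∈ s, f (f a) = a) (hne : ∀ a ∈ s, f a ≠ a) :
    2 ∣ s.card := by
  have h := Finset.sum_involution (s := s) (f := fun _ => (1 : ZMod 2)) (fun a _ => f a)
    (fun a ha => by decide) (fun a ha _ => hne a ha) (fun a ha => hmem a ha)
    (fun a ha => hinv a ha)
  rw [Finset.sum_const, nsmul_eq_mul, mul_one] at h
  exact (ZMod.natCast_eq_zero_iff _ _).mp h

/-- If the class of `x` has odd size and `x` is conjugate to its inverse, then `x⁻¹ = x`. -/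
theorem inv_eq_self_of_odd_class {G : Type*} [Group G] [Finite G] (x : G)
    (hodd : ¬ 2 ∣ (Subgroup.centralizer ({x} : Set G)).index) (hreal : IsConj x x⁻¹) :
    x⁻¹ = x := by
  classical
  have := Fintype.ofFinite G
  by_contra hne
  apply hodd
  rw [index_centralizer_eq_card_conj, Nat.card_eq_fintype_card, Fintype.card_subtype]
  refine even_card_of_involution _ (fun y => y⁻¹) ?_ ?_ ?_
  · intro a ha
    simp only [Finset.mem_filter, Finset.mem_univ, true_and] at ha ⊢
    -- x ~ x⁻¹ ~ a⁻¹
    have h1 : IsConj x⁻¹ a⁻¹ := by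
      obtain ⟨c, hc⟩ := isConj_iff.mp ha
      exact isConj_iff.mpr ⟨c, by rw [← hc]; group⟩
    exact hreal.trans h1
  · intro a _
    simp
  · intro a ha h
    simp only [Finset.mem_filter, Finset.mem_univ, true_and] at ha
    obtain ⟨c, hc⟩ := isConj_iff.mp ha
    apply hne
    -- a = c x c⁻¹ and a⁻¹ = a, so x⁻¹ = x
    have h2 : (c * x * c⁻¹)⁻¹ = c * x * c⁻¹ := by rw [hc]; exact h
    have h3 : x⁻¹ = c⁻¹ * (c * x * c⁻¹)⁻¹ * c := by group
    rw [h3, h2]; group

/-- If the centralizer of `x` contains a Sylow 2-subgroup and `x` is conjugate to its inverse,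
then `x⁻¹ = x`. -/
theorem inv_eq_self_of_two_central {G : Type*} [Group G] [Finite G] (x : G) (P : Sylow 2 G)
    (hP : (P : Subgroup G) ≤ Subgroup.centralizer ({x} : Set G)) (hreal : IsConj x x⁻¹) :
    x⁻¹ = x := by
  have : Fact (Nat.Prime 2) := ⟨Nat.prime_two⟩
  have hodd : ¬ 2 ∣ (Subgroup.centralizer ({x} : Set G)).index := fun h =>
    P.not_dvd_index (h.trans (Subgroup.index_dvd_of_le hP))
  exact inv_eq_self_of_odd_class x hodd hreal

end Cfsg.Agent.Helper69
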