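/-
helper69: CALL S4415 piece p5c (helper63), double.
-/
import Cfsg.Prelude.Def_Transfer
import Cfsg.Prelude.Def_Solvable
import Cfsg.Agent.Helper63.N15Defs
import Cfsg.Agent.Helper29.ExtraCrit

set_option autoImplicit false

namespace Cfsg.Agent.Helper69.N15

open Cfsg.Agent.Helper63.N15

variable {S : Type*} [Group S] [Finite S] {E : Type*} [AddCommGroup E] [Module (ZMod 3) E]
  [Finite E]

/-- P5c. From the elementwise data to `Cfsg.IsExtraspecial 2 ↥R`. -/
theorem p5c (R : Subgroup S) (h : IsES32 R) :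
    Cfsg.IsExtraspecial 2 ↥R ∧ Nat.card ↥R = 32 ∧
      ∃ A : Subgroup S, A ≤ R ∧ Cfsg.IsElementaryAbelian 2 A ∧ Nat.card ↥A = 8 := by
  classical
  obtain ⟨hcard, ⟨z, hzR, hz1, hz2, hzc, hcen, hsq, hcomm⟩, A, hAR, hAc, hAsq, hA8⟩ := h
  refine ⟨?_, hcard, A, hAR, ⟨?_, fun a ha => hAsq a ha⟩, hA8⟩
  · have hR2 : IsPGroup 2 ↥R := IsPGroup.of_card (n := 5) (by rw [hcard]; norm_num)
    apply Cfsg.Agent.Helper29.isExtraspecial_two_of_elementwise hR2 ⟨z, hzR⟩
    · intro h; exact hz1 (congrArg Subtype.val h)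
    · rintro ⟨x, hx⟩ ⟨y, hy⟩
      rcases hcomm x hx y hy with h | h
      · left; apply Subtype.ext
        show x * y * x⁻¹ * y⁻¹ = 1
        rw [h]; group
      · right; apply Subtype.ext
        show x * y * x⁻¹ * y⁻¹ = z
        rw [h]; group
    · rintro ⟨x, hx⟩
      rcases hsq x hx with h | h
      · left; exact Subtype.ext h
      · right; exact Subtype.ext h
    · rintro ⟨x, hx⟩ hxc
      rcases hcen x hx (fun y hy => congrArg Subtype.val (hxc ⟨y, hy⟩)) with h | h
      · left; exact Subtype.ext h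
      · right; exact Subtype.ext h
    · rintro ⟨y, hy⟩
      exact Subtype.ext (hzc y hy).symm
    · by_contra hab
      push Not at hab
      have hall : ∀ x : ↥R, x = 1 ∨ x = ⟨z, hzR⟩ := by
        rintro ⟨x, hx⟩
        rcases hcen x hx (fun y hy => congrArg Subtype.val (hab ⟨x, hx⟩ ⟨y, hy⟩)) with h | h
        · left; exact Subtype.ext h
        · right; exact Subtype.ext h
      have hinj : Function.Injective (fun x : ↥R => decide (x = 1)) := by
        intro x y hxy
        simp only [decide_eq_decide] at hxy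
        rcases hall x with hx | hx
        · rw [hx]; exact (hxy.1 hx).symm
        · rcases hall y with hy | hy
          · rw [hy]; exact hxy.2 hy
          · rw [hx, hy]
      have hle := Nat.card_le_card_of_injective _ hinj
      rw [hcard] at hle
      simp at hle
  · exact ⟨⟨fun a b => Subtype.ext (hAc a a.2 b b.2)⟩⟩

end Cfsg.Agent.Helper69.N15
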