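import Cfsg.Agent.Helper69.SmallClasses

set_option autoImplicit false

/-!
Nilpotent groups: nontrivial normal subgroups meet the centre, and maximal normal abelian
subgroups are self-centralizing.  Application: groups all of whose elements have minimal
class size (conjugate rank one) have class at most 3.
-/

namespace Cfsg.Agent.Helper69

open scoped commutatorElement

/-- In a nilpotent group every nontrivial normal subgroup contains a nontrivial central element. -/
theorem exists_mem_center_of_normal_ne_bot {G : Type*} [Group G] [hnil : Group.IsNilpotent G]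
    (N : Subgroup G) [hN : N.Normal] (hne : N ≠ ⊥) :
    ∃ z ∈ N, z ≠ 1 ∧ z ∈ Subgroup.center G := by
  classical
  have hex : ∃ n : ℕ, N ⊓ Subgroup.upperCentralSeries G n ≠ ⊥ := by
    obtain ⟨n, hn⟩ := hnil.nilpotent
    exact ⟨n, by rw [hn, inf_top_eq]; exact hne⟩
  have hspec := Nat.find_spec hex
  have hmin : ∀ k, k < Nat.find hex → N ⊓ Subgroup.upperCentralSeries G k = ⊥ := by
    intro k hk
    by_contra h
    exact Nat.find_min hex hk h
  have h0 : Nat.find hex ≠ 0 := by
    intro h
    rw [h, Subgroup.upperCentralSeries_zero, inf_bot_eq] at hspec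
    exact hspec rfl
  obtain ⟨k, hk⟩ := Nat.exists_eq_succ_of_ne_zero h0
  rw [hk] at hspec
  have hkbot := hmin k (by omega)
  have hex2 : ∃ x ∈ N ⊓ Subgroup.upperCentralSeries G (k + 1), x ≠ 1 := by
    by_contra hcon
    push Not at hcon
    exact hspec ((Subgroup.eq_bot_iff_forall _).mpr hcon)
  obtain ⟨x, hx, hx1⟩ := hex2
  have hxN : x ∈ N := hx.1
  have hxZ : x ∈ Subgroup.upperCentralSeries G (k + 1) := hx.2
  refine ⟨x, hxN, hx1, ?_⟩
  rw [Subgroup.mem_center_iff]
  intro g
  have h1 : ⁅x, g⁆ ∈ Subgroup.upperCentralSeries G k :=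
    Subgroup.mem_upperCentralSeries_succ_iff.mp hxZ g
  have h2 : ⁅x, g⁆ ∈ N := by
    rw [commutatorElement_def]
    have : x * g * x⁻¹ * g⁻¹ = x * (g * x⁻¹ * g⁻¹) := by group
    rw [this]
    exact N.mul_mem hxN (hN.conj_mem _ (N.inv_mem hxN) g)
  have h3 : ⁅x, g⁆ ∈ N ⊓ Subgroup.upperCentralSeries G k := ⟨h2, h1⟩
  rw [hkbot, Subgroup.mem_bot, commutatorElement_def] at h3
  have : g * x = (x * g * x⁻¹ * g⁻¹)⁻¹ * (x * g) := by group
  rw [this, h3]; group

/-- A finite nilpotent group has a normal abelian subgroup equal to its own centralizer. -/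
theorem exists_self_centralizing_normal_abelian (G : Type*) [Group G] [Finite G]
    [Group.IsNilpotent G] :
    ∃ A : Subgroup G, A.Normal ∧ (∀ a ∈ A, ∀ b ∈ A, a * b = b * a) ∧
      Subgroup.centralizer (A : Set G) = A := by
  classical
  let 𝒜 : Set (Subgroup G) := {A | A.Normal ∧ ∀ a ∈ A, ∀ b ∈ A, a * b = b * a}
  have hbot : (⊥ : Subgroup G) ∈ 𝒜 := by
    refine ⟨inferInstance, ?_⟩
    intro a ha b hb
    rw [Subgroup.mem_bot] at ha hb
    rw [ha, hb]
  obtain ⟨A, -, hAmax⟩ := (Set.toFinite 𝒜).exists_le_maximal hbot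
  obtain ⟨hAn, hAc⟩ := hAmax.prop
  have := hAn
  refine ⟨A, hAn, hAc, ?_⟩
  have hAle : A ≤ Subgroup.centralizer (A : Set G) := by
    intro a ha
    rw [Subgroup.mem_centralizer_iff]
    intro b hb
    exact hAc b hb a ha
  by_contra hne
  have hlt : ¬ Subgroup.centralizer (A : Set G) ≤ A := fun h => hne (le_antisymm h hAle)
  -- pass to the quotient
  set π := QuotientGroup.mk' A with hπ
  have hCbar : (Subgroup.centralizer (A : Set G)).map π ≠ ⊥ := by
    rw [Ne, Subgroup.map_eq_bot_iff, QuotientGroup.ker_mk']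
    exact hlt
  have : ((Subgroup.centralizer (A : Set G)).map π).Normal :=
    Subgroup.Normal.map inferInstance π (QuotientGroup.mk'_surjective A)
  obtain ⟨z, hzC, hz1, hzZ⟩ := exists_mem_center_of_normal_ne_bot
    ((Subgroup.centralizer (A : Set G)).map π) hCbar
  obtain ⟨x, hxC, rfl⟩ := Subgroup.mem_map.mp hzC
  have hxA : x ∉ A := by
    intro h
    apply hz1
    exact (QuotientGroup.eq_one_iff x).mpr h
  -- B = preimage of ⟨π x⟩
  have hZn : (Subgroup.zpowers (π x)).Normal := by
    constructor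
    intro n hn g
    have hc : n ∈ Subgroup.center (G ⧸ A) := (Subgroup.zpowers_le.mpr hzZ) hn
    have := Subgroup.mem_center_iff.mp hc g
    have e : g * n * g⁻¹ = n := by rw [this]; group
    rw [e]; exact hn
  let B : Subgroup G := (Subgroup.zpowers (π x)).comap π
  have hBn : B.Normal := hZn.comap π
  have hAB : A ≤ B := by
    intro a ha
    show π a ∈ Subgroup.zpowers (π x)
    have : π a = 1 := (QuotientGroup.eq_one_iff a).mpr ha
    rw [this]; exact Subgroup.one_mem _
  have hxB : x ∈ B := by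
    show π x ∈ Subgroup.zpowers (π x)
    exact Subgroup.mem_zpowers _
  have hk : ∀ u ∈ ((A : Set G) ∪ {x}), ∀ v ∈ ((A : Set G) ∪ {x}), u * v = v * u := by
    have hxc := Subgroup.mem_centralizer_iff.mp hxC
    rintro u (hu | hu) v (hv | hv)
    · exact hAc u hu v hv
    · rw [Set.mem_singleton_iff] at hv; rw [hv]; exact hxc u hu
    · rw [Set.mem_singleton_iff] at hu; rw [hu]; exact (hxc v hv).symm
    · rw [Set.mem_singleton_iff] at hu hv; rw [hu, hv]
  have hBle : B ≤ Subgroup.closure ((A : Set G) ∪ {x}) := by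
    intro b hb
    have hb' : π b ∈ Subgroup.zpowers (π x) := hb
    obtain ⟨k, hk'⟩ := Subgroup.mem_zpowers_iff.mp hb'
    have h1 : π (x ^ k) = π b := by rw [map_zpow, hk']
    have h2 : (x ^ k)⁻¹ * b ∈ A := QuotientGroup.eq.mp h1
    have h3 : b = x ^ k * ((x ^ k)⁻¹ * b) := by group
    rw [h3]
    have hx' : x ∈ Subgroup.closure ((A : Set G) ∪ {x}) :=
      Subgroup.subset_closure (Set.mem_union_right _ (Set.mem_singleton x))
    have ha' : (x ^ k)⁻¹ * b ∈ Subgroup.closure ((A : Set G) ∪ {x}) :=
      Subgroup.subset_closure (Set.mem_union_left _ h2)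
    exact Subgroup.mul_mem _ (Subgroup.zpow_mem _ hx' k) ha'
  have hBc : ∀ a ∈ B, ∀ b ∈ B, a * b = b * a := by
    intro a ha b hb
    have hcomm := Subgroup.isMulCommutative_closure hk
    have := hcomm.is_comm.comm ⟨a, hBle ha⟩ ⟨b, hBle hb⟩
    exact congrArg Subtype.val this
  have hBmem : B ∈ 𝒜 := ⟨hBn, hBc⟩
  exact hxA (hAmax.2 hBmem hAB hxB)

/-- If every class size of the finite nilpotent group `G` is at most every noncentral class
size (conjugate rank one), then `G` has nilpotency class at most 3. -/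
theorem upperCentralSeries_three_of_conjugate_rank_one {G : Type*} [Group G] [Finite G]
    [Group.IsNilpotent G]
    (hall : ∀ x y : G, 1 < (Subgroup.centralizer ({y} : Set G)).index →
      (Subgroup.centralizer ({x} : Set G)).index ≤ (Subgroup.centralizer ({y} : Set G)).index) :
    Subgroup.upperCentralSeries G 3 = ⊤ := by
  obtain ⟨A, hAn, hAc, hCA⟩ := exists_self_centralizing_normal_abelian G
  have := hAn
  have hT : ∀ g : G, g ∈ centralCommSub A := fun g a ha =>
    comm_mem_center_of_min_class A hAc g (hall g) a ha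
  have htriple : ∀ g h k : G,
      (g * h * g⁻¹ * h⁻¹) * k * (g * h * g⁻¹ * h⁻¹)⁻¹ * k⁻¹ ∈ Subgroup.center G := by
    intro g h k
    have hc : g * h * g⁻¹ * h⁻¹ ∈ A := by
      have := centralCommSub_comm_mem_centralizer A g h (hT g) (hT h)
      rwa [hCA] at this
    exact hT k _ hc
  have h3 : ∀ x : G, x ∈ Subgroup.upperCentralSeries G (0 + 1 + 1 + 1) := by
    intro x
    rw [Subgroup.mem_upperCentralSeries_succ_iff]
    intro y
    rw [Subgroup.mem_upperCentralSeries_succ_iff]
    intro z
    rw [Subgroup.mem_upperCentralSeries_succ_iff]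
    intro w
    rw [Subgroup.upperCentralSeries_zero, Subgroup.mem_bot]
    have hcc := Subgroup.mem_center_iff.mp (htriple x y z) w
    simp only [commutatorElement_def]
    rw [← hcc]
    group
  rw [eq_top_iff]
  intro x _
  exact h3 x

end Cfsg.Agent.Helper69
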