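import Mathlib

set_option autoImplicit false
set_option linter.unusedSectionVars false

namespace Cfsg.Agent.Helper69.ThreeCyc

open Equiv Equiv.Perm

variable {α : Type*} [DecidableEq α] [Fintype α]

/-- The 3-cycle `a → b → c → a`. -/
def c3 (a b c : α) : Perm α := swap a b * swap b c

theorem c3_apply {a b c : α} (hab : a ≠ b) (hac : a ≠ c) (hbc : b ≠ c) (x : α) :
    c3 a b c x = if x = a then b else if x = b then c else if x = c then a else x := by
  simp only [c3, Perm.mul_apply, swap_apply_def]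
  grind

theorem c3_isThreeCycle {a b c : α} (hab : a ≠ b) (hac : a ≠ c) (hbc : b ≠ c) :
    IsThreeCycle (c3 a b c) := by
  have h : c3 a b c = swap b a * swap b c := by rw [c3, swap_comm]
  rw [h]; exact isThreeCycle_swap_mul_swap_same hab.symm hbc hac

theorem c3_rot {a b c : α} (hab : a ≠ b) (hac : a ≠ c) (hbc : b ≠ c) :
    c3 a b c = c3 b c a := by
  ext x
  rw [c3_apply hab hac hbc, c3_apply hbc hab.symm hac.symm]
  grind

theorem c3_mul_rev {a b c : α} (hab : a ≠ b) (hac : a ≠ c) (hbc : b ≠ c) :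
    c3 a b c * c3 c b a = 1 := by
  ext x
  rw [Perm.mul_apply, Perm.one_apply, c3_apply hab hac hbc, c3_apply hbc.symm hac.symm hab.symm]
  grind

theorem c3_inv {a b c : α} (hab : a ≠ b) (hac : a ≠ c) (hbc : b ≠ c) :
    (c3 a b c)⁻¹ = c3 c b a :=
  inv_eq_of_mul_eq_one_right (c3_mul_rev hab hac hbc)

/-- Every 3-cycle is a `c3`. -/
theorem eq_c3 {s : Perm α} (hs : IsThreeCycle s) {a : α} (ha : s a ≠ a) :
    s = c3 a (s a) (s (s a)) ∧ a ≠ s a ∧ a ≠ s (s a) ∧ s a ≠ s (s a) := by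
  have hmem : a ∈ s.support := Perm.mem_support.mpr ha
  refine ⟨(hs.eq_swap_mul_swap_iff_mem_support (a := a)).mpr hmem, ?_⟩
  have := (hs.nodup_iff_mem_support (a := a)).mpr hmem
  grind

theorem exists_eq_c3 {s : Perm α} (hs : IsThreeCycle s) :
    ∃ a b c : α, a ≠ b ∧ a ≠ c ∧ b ≠ c ∧ s = c3 a b c := by
  have hne : s ≠ 1 := hs.isCycle.ne_one
  obtain ⟨a, ha⟩ : ∃ a, s a ≠ a := by
    by_contra h
    push Not at h
    exact hne (Perm.ext h)
  obtain ⟨h1, h2, h3, h4⟩ := eq_c3 hs ha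
  exact ⟨a, s a, s (s a), h2, h3, h4, h1⟩

theorem cube_apply {s : Perm α} (hs : IsThreeCycle s) (x : α) : s (s (s x)) = x := by
  have h : (s ^ 3) x = x := by rw [← hs.orderOf, pow_orderOf_eq_one]; rfl
  simpa [pow_succ, Perm.mul_apply] using h

/-- A 3-cycle moving three given distinct points fixes everything else. -/
theorem fix_of_moves {s : Perm α} (hs : IsThreeCycle s) {a b c : α} (hab : a ≠ b) (hac : a ≠ c)
    (hbc : b ≠ c) (ha : s a ≠ a) (hb : s b ≠ b) (hc : s c ≠ c) (x : α) (hxa : x ≠ a)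
    (hxb : x ≠ b) (hxc : x ≠ c) : s x = x := by
  by_contra hx
  have hsub : ({a, b, c, x} : Finset α) ⊆ s.support := by
    intro y hy
    simp only [Finset.mem_insert, Finset.mem_singleton] at hy
    rw [Perm.mem_support]
    rcases hy with rfl | rfl | rfl | rfl <;> assumption
  have hcard := Finset.card_le_card hsub
  rw [hs.card_support] at hcard
  have : ({a, b, c, x} : Finset α).card = 4 := by
    rw [Finset.card_insert_of_notMem, Finset.card_insert_of_notMem, Finset.card_insert_of_notMem,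
      Finset.card_singleton]
    · simp; exact hxc.symm
    · simp; exact ⟨hbc, hxb.symm⟩
    · simp; exact ⟨hab, hac, hxa.symm⟩
  omega

/-- Key lemma 1. -/
theorem K1 {a b c : α} (hab : a ≠ b) (hac : a ≠ c) (hbc : b ≠ c) {s : Perm α}
    (hs : IsThreeCycle s) (h2 : c3 a b c * s * (c3 a b c * s) = 1) (hfix : s a = a) :
    s b = c ∧ ∃ d, d ≠ a ∧ d ≠ b ∧ d ≠ c ∧ s = c3 b c d := by
  have E : ∀ x, c3 a b c (s (c3 a b c (s x))) = x := fun x => by
    have := congrArg (fun p : Perm α => p x) h2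
    simpa [Perm.mul_apply] using this
  have hinj : ∀ x y, s x = s y → x = y := fun x y h => s.injective h
  have hsb : s b = c := by
    have h1 := E a
    rw [hfix, c3_apply hab hac hbc a, if_pos rfl, c3_apply hab hac hbc] at h1
    grind
  have hb : s b ≠ b := by rw [hsb]; exact hbc.symm
  obtain ⟨hform, -, -, -⟩ := eq_c3 hs hb
  rw [hsb] at hform
  have h3b := cube_apply hs b
  rw [hsb] at h3b
  refine ⟨hsb, s c, ?_, ?_, ?_, hform⟩
  · intro h; exact hac (hinj a c (hfix.trans h.symm))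
  · intro h; rw [h, hsb] at h3b; exact hbc h3b.symm
  · intro h; exact hbc (hinj b c (hsb.trans h.symm))

/-- Key lemma 0. -/
theorem K0 {a b c : α} (hab : a ≠ b) (hac : a ≠ c) (hbc : b ≠ c) {s : Perm α}
    (hs : IsThreeCycle s) (h2 : c3 a b c * s * (c3 a b c * s) = 1) (hne : s ≠ c3 c b a) :
    s a = a ∨ s b = b ∨ s c = c := by
  by_contra hcon
  push Not at hcon
  obtain ⟨ha, hb, hc⟩ := hcon
  have E : ∀ x, c3 a b c (s (c3 a b c (s x))) = x := fun x => by
    have := congrArg (fun p : Perm α => p x) h2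
    simpa [Perm.mul_apply] using this
  have hinj : ∀ x y, s x = s y → x = y := fun x y h => s.injective h
  have hfix := fix_of_moves hs hab hac hbc ha hb hc
  have h3 := cube_apply hs
  have Ea := E a
  have Eb := E b
  have Ec := E c
  simp only [c3_apply hab hac hbc] at Ea Eb Ec
  apply hne
  ext x
  rw [c3_apply hbc.symm hac.symm hab.symm]
  grind

/-- Key lemma 2. -/
theorem K2 {a b c d : α} (hab : a ≠ b) (hac : a ≠ c) (hbc : b ≠ c) (had : a ≠ d) (hbd : b ≠ d)
    (hcd : c ≠ d) {s : Perm α} (hs : IsThreeCycle s)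
    (h2 : c3 a b c * s * (c3 a b c * s) = 1) (h2' : c3 a b d * s * (c3 a b d * s) = 1)
    (hne : s ≠ c3 c b a) (hne' : s ≠ c3 d b a) :
    ∃ e, e ≠ a ∧ e ≠ b ∧ e ≠ c ∧ e ≠ d ∧ s = c3 a b e := by
  have hinj : ∀ x y, s x = s y → x = y := fun x y h => s.injective h
  -- rotated versions
  have r1 : c3 a b c = c3 b c a := c3_rot hab hac hbc
  have r2 : c3 a b c = c3 c a b := by rw [r1, c3_rot hbc hab.symm hac.symm]
  have r1' : c3 a b d = c3 b d a := c3_rot hab had hbd
  have r2' : c3 a b d = c3 d a b := by rw [r1', c3_rot hbd hab.symm had.symm]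
  rcases K0 hab hac hbc hs h2 hne with h | h | h
  · exfalso
    have e1 := (K1 hab hac hbc hs h2 h).1
    have e2 := (K1 hab had hbd hs h2' h).1
    exact hcd (e1.symm.trans e2)
  · exfalso
    have e1 := (K1 hbc hab.symm hac.symm hs (r1 ▸ h2) h).1
    have e2 := (K1 hbd hab.symm had.symm hs (r1' ▸ h2') h).1
    exact hcd (hinj c d (e1.trans e2.symm))
  · obtain ⟨hsa, e, he1, he2, he3, hform⟩ := K1 hac.symm hbc.symm hab hs (r2 ▸ h2) h
    refine ⟨e, he2, he3, he1, ?_, hform⟩
    rintro rfl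
    -- s = c3 a b e, so s e = a ≠ e; but K0 for the second says s fixes a, b or e
    have hse : s e = a := by rw [hform, c3_apply hab he2.symm he3.symm]; grind
    have hsb : s b = e := by rw [hform, c3_apply hab he2.symm he3.symm]; grind
    rcases K0 hab had hbd hs h2' hne' with h' | h' | h'
    · rw [hsa] at h'; exact hab h'.symm
    · rw [hsb] at h'; exact hbd h'.symm
    · rw [hse] at h'; exact had h'

/-- The 3-cycles `(a b x)` generate the alternating group. -/
theorem mem_closure_c3 {a b : α} (hab : a ≠ b) {s : Perm α} (hs : IsThreeCycle s) :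
    s ∈ Subgroup.closure {t : Perm α | ∃ x, x ≠ a ∧ x ≠ b ∧ t = c3 a b x} := by
  set H := Subgroup.closure {t : Perm α | ∃ x, x ≠ a ∧ x ≠ b ∧ t = c3 a b x} with hH
  have g : ∀ x, x ≠ a → x ≠ b → c3 a b x ∈ H :=
    fun x hxa hxb => Subgroup.subset_closure ⟨x, hxa, hxb, rfl⟩
  have m4 : ∀ x y, x ≠ a → y ≠ a → x ≠ y → c3 a x y ∈ H := by
    intro x y hxa hya hxy
    by_cases hxb : x = b
    · rw [hxb]; exact g y hya (by rw [← hxb]; exact Ne.symm hxy)
    by_cases hyb : y = b
    · have e : c3 a x y = (c3 a b x)⁻¹ := by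
        rw [hyb, c3_inv hab hxa.symm (Ne.symm hxb)]
        exact c3_rot hxa.symm hab hxb
      rw [e]; exact H.inv_mem (g x hxa hxb)
    have e : c3 a x y = c3 a b y * (c3 a b x)⁻¹ := by
      rw [c3_inv hab hxa.symm (Ne.symm hxb)]
      ext w
      rw [Perm.mul_apply, c3_apply hxa.symm hya.symm hxy, c3_apply hab hya.symm (Ne.symm hyb),
        c3_apply hxb hxa hab.symm]
      grind
    rw [e]; exact H.mul_mem (g y hya hyb) (H.inv_mem (g x hxa hxb))
  obtain ⟨u, v, w, huv, huw, hvw, rfl⟩ := exists_eq_c3 hs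
  by_cases hu : u = a
  · rw [hu]; exact m4 v w (by rw [← hu]; exact huv.symm) (by rw [← hu]; exact huw.symm) hvw
  by_cases hv : v = a
  · rw [c3_rot huv huw hvw, hv]
    exact m4 w u (by rw [← hv]; exact hvw.symm) hu huw.symm
  by_cases hw : w = a
  · rw [hw, ← c3_rot (Ne.symm hu) (Ne.symm hv) huv]; exact m4 u v hu hv huv
  have e : c3 u v w = c3 a u v * c3 a v w := by
    ext z
    rw [Perm.mul_apply, c3_apply huv huw hvw, c3_apply (Ne.symm hv) (Ne.symm hw) hvw,
      c3_apply (Ne.symm hu) (Ne.symm hv) huv]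
    grind
  rw [e]; exact H.mul_mem (m4 u v hu hv huv) (m4 v w hv hw hvw)

theorem closure_c3_eq {a b : α} (hab : a ≠ b) :
    Subgroup.closure {t : Perm α | ∃ x, x ≠ a ∧ x ≠ b ∧ t = c3 a b x} = alternatingGroup α := by
  apply le_antisymm
  · rw [Subgroup.closure_le]
    rintro t ⟨x, hxa, hxb, rfl⟩
    exact (c3_isThreeCycle hab hxa.symm hxb.symm).mem_alternatingGroup
  · rw [← Equiv.Perm.closure_three_cycles_eq_alternating, Subgroup.closure_le]
    intro s hs
    exact mem_closure_c3 hab hs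

/-- Conjugation of a 3-cycle. -/
theorem conj_c3 (σ : Perm α) (a b c : α) : σ * c3 a b c * σ⁻¹ = c3 (σ a) (σ b) (σ c) := by
  unfold c3
  rw [Equiv.swap_apply_apply, Equiv.swap_apply_apply]
  group

/-- `(a b x)(a b y)` is an involution. -/
theorem c3_mul_c3_sq {a b x y : α} (hab : a ≠ b) (hxa : x ≠ a) (hxb : x ≠ b) (hya : y ≠ a)
    (hyb : y ≠ b) (hxy : x ≠ y) : c3 a b x * c3 a b y * (c3 a b x * c3 a b y) = 1 := by
  ext z
  simp only [Perm.mul_apply, Perm.one_apply, c3_apply hab hxa.symm hxb.symm,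
    c3_apply hab hya.symm hyb.symm]
  grind

theorem c3_ne_c3_rev {a b x y : α} (hab : a ≠ b) (hxa : x ≠ a) (hxb : x ≠ b) (hya : y ≠ a)
    (hyb : y ≠ b) : c3 a b x ≠ c3 y b a := by
  intro h
  have := congrArg (fun p : Perm α => p a) h
  simp only [c3_apply hab hxa.symm hxb.symm, c3_apply hyb hya hab.symm] at this
  grind

theorem c3_injective {a b x y : α} (hab : a ≠ b) (hxa : x ≠ a) (hxb : x ≠ b) (hya : y ≠ a)
    (hyb : y ≠ b) (h : c3 a b x = c3 a b y) : x = y := by
  have := congrArg (fun p : Perm α => p b) h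
  simp only [c3_apply hab hxa.symm hxb.symm, c3_apply hab hya.symm hyb.symm] at this
  grind

end Cfsg.Agent.Helper69.ThreeCyc
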