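import Mathlib.GroupTheory.Nilpotent
import Mathlib.GroupTheory.Commutator.Basic
import Mathlib.GroupTheory.QuotientGroup.Basic
import Mathlib.Tactic.Group

set_option autoImplicit false

/-!
Small lemmas on groups generated by two elements, commutators modulo normal subgroups and
nilpotent groups.
-/

namespace Cfsg.Agent.Helper69

section TwoGen

variable {K : Type*} [Group K]

/-- In a nilpotent group, `⁅N, ⊤⁆ = N` forces `N = ⊥`. -/
theorem eq_bot_of_commutator_top_eq [hK : Group.IsNilpotent K] (N : Subgroup K)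
    (h : ⁅N, (⊤ : Subgroup K)⁆ = N) : N = ⊥ := by
  have key : ∀ k : ℕ, N ≤ (⊤ : Subgroup K).lowerCentralSeries k := by
    intro k
    induction k with
    | zero => rw [Subgroup.lowerCentralSeries_zero]; exact le_top
    | succ k ih =>
      rw [Subgroup.lowerCentralSeries_succ]
      calc N = ⁅N, (⊤ : Subgroup K)⁆ := h.symm
        _ ≤ ⁅(⊤ : Subgroup K).lowerCentralSeries k, ⊤⁆ := Subgroup.commutator_mono ih le_rfl
  have := key (Group.nilpotencyClass K)
  rw [Subgroup.lowerCentralSeries_nilpotencyClass] at this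
  exact le_bot_iff.mp this

/-- The explicit commutator lies in the commutator subgroup. -/
theorem comm_mem_commutator {H₁ H₂ : Subgroup K} {x y : K} (hx : x ∈ H₁) (hy : y ∈ H₂) :
    x * y * x⁻¹ * y⁻¹ ∈ ⁅H₁, H₂⁆ := by
  have := Subgroup.commutator_mem_commutator hx hy
  rwa [commutatorElement_def] at this

theorem commutator_le_of_forall {H₁ H₂ H₃ : Subgroup K}
    (h : ∀ x ∈ H₁, ∀ y ∈ H₂, x * y * x⁻¹ * y⁻¹ ∈ H₃) : ⁅H₁, H₂⁆ ≤ H₃ := by
  rw [Subgroup.commutator_le]
  intro x hx y hy
  rw [commutatorElement_def]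
  exact h x hx y hy

theorem mul_comm_of_comm_eq_one {x y : K} (h : x * y * x⁻¹ * y⁻¹ = 1) : x * y = y * x := by
  calc x * y = (x * y * x⁻¹ * y⁻¹) * (y * x) := by group
    _ = y * x := by rw [h, one_mul]

theorem comm_eq_one_of_mul_comm {x y : K} (h : x * y = y * x) : x * y * x⁻¹ * y⁻¹ = 1 := by
  rw [h]; group

/-- Modulo a normal subgroup containing the commutator, two elements commute. -/
theorem mk_comm_of_comm_mem (N : Subgroup K) [N.Normal] (x y : K) (h : x * y * x⁻¹ * y⁻¹ ∈ N) :
    QuotientGroup.mk' N x * QuotientGroup.mk' N y = QuotientGroup.mk' N y * QuotientGroup.mk' N x := by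
  have h1 : QuotientGroup.mk' N (x * y * x⁻¹ * y⁻¹) = 1 := (QuotientGroup.eq_one_iff _).mpr h
  rw [map_mul, map_mul, map_mul, map_inv, map_inv] at h1
  exact mul_comm_of_comm_eq_one h1

theorem comm_mem_of_mk_comm (N : Subgroup K) [N.Normal] (x y : K)
    (h : QuotientGroup.mk' N x * QuotientGroup.mk' N y =
      QuotientGroup.mk' N y * QuotientGroup.mk' N x) : x * y * x⁻¹ * y⁻¹ ∈ N := by
  apply (QuotientGroup.eq_one_iff _).mp
  show QuotientGroup.mk' N (x * y * x⁻¹ * y⁻¹) = 1
  rw [map_mul, map_mul, map_mul, map_inv, map_inv]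
  exact comm_eq_one_of_mul_comm h

/-- An element commuting with two generators is central. -/
theorem commute_of_closure_pair {A B : K} (hgen : Subgroup.closure {A, B} = ⊤) (z : K)
    (hA : z * A = A * z) (hB : z * B = B * z) (x : K) : z * x = x * z := by
  have hle : Subgroup.closure {A, B} ≤ Subgroup.centralizer {z} := by
    rw [Subgroup.closure_le]
    intro y hy
    rw [SetLike.mem_coe, Subgroup.mem_centralizer_iff]
    intro w hw
    rw [Set.mem_singleton_iff] at hw
    subst hw
    rcases hy with rfl | rfl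
    · exact hA
    · exact hB
  have hx : x ∈ Subgroup.centralizer {z} := hle (by rw [hgen]; trivial)
  rw [Subgroup.mem_centralizer_iff] at hx
  exact hx z rfl

/-- A group generated by two commuting elements is commutative. -/
theorem mul_comm_of_closure_pair {A B : K} (hgen : Subgroup.closure {A, B} = ⊤)
    (hAB : A * B = B * A) (x y : K) : x * y = y * x := by
  have hA : ∀ w, A * w = w * A := commute_of_closure_pair hgen A rfl hAB
  have hB : ∀ w, B * w = w * B := commute_of_closure_pair hgen B hAB.symm rfl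
  exact commute_of_closure_pair hgen x (hA x).symm (hB x).symm y

/-- The image of a generating pair generates the quotient. -/
theorem closure_pair_map {K' : Type*} [Group K'] (f : K →* K') (hf : Function.Surjective f)
    {A B : K} (hgen : Subgroup.closure {A, B} = ⊤) : Subgroup.closure {f A, f B} = ⊤ := by
  have h1 : (Subgroup.closure ({A, B} : Set K)).map f = ⊤ := by
    rw [hgen]; exact Subgroup.map_top_of_surjective f hf
  rw [MonoidHom.map_closure, Set.image_pair] at h1
  exact h1

/-- If `K` is generated by `A`, `B` and the commutator `C` of `A` and `B` commutes with `A` and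
`B`, then the derived subgroup is contained in the cyclic group generated by `C`. -/
theorem commutator_le_zpowers_of_closure_pair {A B : K} (hgen : Subgroup.closure {A, B} = ⊤)
    (hCA : (A * B * A⁻¹ * B⁻¹) * A = A * (A * B * A⁻¹ * B⁻¹))
    (hCB : (A * B * A⁻¹ * B⁻¹) * B = B * (A * B * A⁻¹ * B⁻¹)) :
    commutator K ≤ Subgroup.zpowers (A * B * A⁻¹ * B⁻¹) := by
  obtain ⟨C, hC⟩ : ∃ C : K, C = A * B * A⁻¹ * B⁻¹ := ⟨_, rfl⟩
  rw [← hC] at hCA hCB ⊢
  have hcen : ∀ x, C * x = x * C := commute_of_closure_pair hgen C hCA hCB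
  have hZn : (Subgroup.zpowers C).Normal := by
    refine ⟨fun z hz g => ?_⟩
    obtain ⟨k, rfl⟩ := Subgroup.mem_zpowers_iff.mp hz
    have h1 : g * C ^ k * g⁻¹ = C ^ k := by
      have h2 : Commute C g := hcen g
      have h3 : Commute (C ^ k) g := h2.zpow_left k
      rw [← h3.eq, mul_inv_cancel_right]
    rw [h1]; exact hz
  rw [← Subgroup.Normal.quotient_commutative_iff_commutator_le]
  have hgen' := closure_pair_map (QuotientGroup.mk' (Subgroup.zpowers C))
    (QuotientGroup.mk'_surjective _) hgen
  have hAB : QuotientGroup.mk' (Subgroup.zpowers C) A * QuotientGroup.mk' (Subgroup.zpowers C) B =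
      QuotientGroup.mk' (Subgroup.zpowers C) B * QuotientGroup.mk' (Subgroup.zpowers C) A := by
    apply mk_comm_of_comm_mem
    rw [← hC]; exact Subgroup.mem_zpowers C
  exact ⟨⟨fun x y => mul_comm_of_closure_pair hgen' hAB x y⟩⟩

/-- Powers of an element of order at most two. -/
theorem zpow_eq_one_or_self_of_mul_self {C : K} (hC : C * C = 1) (k : ℤ) : C ^ k = 1 ∨ C ^ k = C := by
  have hinv : C⁻¹ = C := inv_eq_of_mul_eq_one_right hC
  induction k using Int.induction_on with
  | zero => left; simp
  | succ k ih =>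
    rcases ih with h | h
    · right; rw [zpow_add_one, h, one_mul]
    · left; rw [zpow_add_one, h, hC]
  | pred k ih =>
    rcases ih with h | h
    · right; rw [zpow_sub_one, h, one_mul, hinv]
    · left; rw [zpow_sub_one, h, hinv, hC]

end TwoGen

end Cfsg.Agent.Helper69
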