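import Mathlib
import Cfsg.Prelude.Def_GeometricClasses
import Cfsg.Agent.Helper90.UFRDefs
import Cfsg.Agent.Helper90.UFRBase

/-!
# S5982, piece ADJ (helper69): for a unitary isometry `h` (`hᵀ J h^σ = J`) the annihilating
polynomials are stable under `g ↦ (g^σ)` reversed; on roots: `α ↦ (α ^ q₀)⁻¹`.
-/

set_option autoImplicit false

namespace Cfsg.Agent.Helper69

open Module Polynomial Cfsg.Agent.Helper90.UFR

universe u

section adj
variable {F : Type u} [Field F]

theorem ufr_aeval_transpose {n : ℕ} (B : Matrix (Fin n) (Fin n) F) (P : Polynomial F) :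
    aeval B.transpose P = (aeval B P).transpose := by
  rw [aeval_eq_sum_range, aeval_eq_sum_range, Matrix.transpose_sum]
  apply Finset.sum_congr rfl
  intro i _
  rw [Matrix.transpose_smul, Matrix.transpose_pow]

theorem ufr_aeval_conj {n : ℕ} (J Jinv B : Matrix (Fin n) (Fin n) F) (h1 : J * Jinv = 1)
    (h2 : Jinv * J = 1) (P : Polynomial F) :
    aeval (Jinv * B * J) P = Jinv * aeval B P * J := by
  have hpow : ∀ i : ℕ, (Jinv * B * J) ^ i = Jinv * B ^ i * J := by
    intro i
    induction i with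
    | zero => simp [h2]
    | succ i ih =>
      rw [pow_succ, ih, pow_succ]
      calc Jinv * B ^ i * J * (Jinv * B * J) = Jinv * B ^ i * (J * Jinv) * B * J := by
            simp only [Matrix.mul_assoc]
        _ = Jinv * (B ^ i * B) * J := by rw [h1, Matrix.mul_one, Matrix.mul_assoc Jinv]
  rw [aeval_eq_sum_range, aeval_eq_sum_range, Finset.mul_sum, Finset.sum_mul]
  apply Finset.sum_congr rfl
  intro i _
  rw [hpow, Matrix.mul_smul, Matrix.smul_mul]

/-- reversal and inverse matrices -/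
theorem ufr_aeval_reverse {n : ℕ} (h A : Matrix (Fin n) (Fin n) F) (hA : h * A = 1)
    (G : Polynomial F) (hG : aeval A G = 0) : aeval h G.reverse = 0 := by
  set N := G.natDegree with hN
  have h1 : aeval h G.reverse = ∑ i ∈ Finset.range (N + 1), G.reverse.coeff i • h ^ i :=
    aeval_eq_sum_range' (lt_of_le_of_lt (Polynomial.reverse_natDegree_le G) (Nat.lt_succ_self N)) h
  have h2 : aeval A G = ∑ i ∈ Finset.range (N + 1), G.coeff i • A ^ i :=
    aeval_eq_sum_range' (Nat.lt_succ_self N) A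
  have hpow : ∀ i : ℕ, h ^ i * A ^ i = 1 := by
    intro i
    induction i with
    | zero => simp
    | succ i ih =>
      rw [pow_succ, pow_succ']
      calc h ^ i * h * (A * A ^ i) = h ^ i * (h * A) * A ^ i := by simp only [Matrix.mul_assoc]
        _ = 1 := by rw [hA, Matrix.mul_one, ih]
  have h3 : aeval h G.reverse = h ^ N * aeval A G := by
    rw [h1, h2, Finset.mul_sum, ← Finset.sum_range_reflect]
    apply Finset.sum_congr rfl
    intro i hi
    have hi' : i ≤ N := by
      have := Finset.mem_range.mp hi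
      omega
    have e1 : N + 1 - 1 - i = N - i := by omega
    rw [e1, Matrix.mul_smul, Polynomial.coeff_reverse, Polynomial.revAt_le (Nat.sub_le N i)]
    have e2 : N - (N - i) = i := by omega
    rw [e2]
    congr 1
    have e3 : h ^ N = h ^ (N - i) * h ^ i := by rw [← pow_add]; congr 1; omega
    rw [e3, Matrix.mul_assoc, hpow, Matrix.mul_one]
  rw [h3, hG, Matrix.mul_zero]

theorem adj_root [Fintype F] (q₀ : ℕ) (hq : Fintype.card F = q₀ ^ 2) (σ : F ≃+* F)
    (hσ : ∀ t, σ t = t ^ q₀)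
    (n : ℕ) (J h : Matrix (Fin n) (Fin n) F) (hJ : J.det ≠ 0) (hh : h.det ≠ 0)
    (hJh : h.transpose * J * h.map σ = J) (g : Polynomial F) (hg : aeval h g = 0) :
    ∃ g' : Polynomial F, aeval h g' = 0 ∧
      ∀ (K : Type u) [Field K] [Algebra F K] (α : K), α ≠ 0 → aeval α g' = 0 →
        aeval ((α ^ q₀)⁻¹) g = 0 := by
  classical
  have hJu : IsUnit J.det := isUnit_iff_ne_zero.mpr hJ
  have hhu : IsUnit h.det := isUnit_iff_ne_zero.mpr hh
  have hJJ : J * J⁻¹ = 1 := Matrix.mul_nonsing_inv J hJu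
  have hJJ' : J⁻¹ * J = 1 := Matrix.nonsing_inv_mul J hJu
  have hhh : h * h⁻¹ = 1 := Matrix.mul_nonsing_inv h hhu
  have hhh' : h⁻¹ * h = 1 := Matrix.nonsing_inv_mul h hhu
  -- `G = g^σ` annihilates `h^σ`
  set G : Polynomial F := g.map (σ : F →+* F) with hGdef
  have hG1 : aeval (h.map σ) G = 0 := by
    have e1 : (RingHom.mapMatrix (σ : F →+* F)) (aeval h g)
        = (0 : Matrix (Fin n) (Fin n) F) := by rw [hg, map_zero]
    rw [Polynomial.aeval_def, Polynomial.hom_eval₂] at e1
    rw [Polynomial.aeval_def, hGdef, Polynomial.eval₂_map]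
    have e2 : ((RingHom.mapMatrix (σ : F →+* F)).comp
        (algebraMap F (Matrix (Fin n) (Fin n) F)))
        = (algebraMap F (Matrix (Fin n) (Fin n) F)).comp (σ : F →+* F) := by
      ext t i j
      simp [Matrix.algebraMap_matrix_apply]
      split_ifs <;> simp
    rw [e2] at e1
    exact e1
  -- `h^σ = J⁻¹ (h⁻¹)ᵀ J`
  have hhσ : h.map σ = J⁻¹ * (h⁻¹).transpose * J := by
    have e1 : (h⁻¹).transpose * h.transpose = 1 := by
      rw [← Matrix.transpose_mul, hhh, Matrix.transpose_one]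
    have e2 : (h⁻¹).transpose * (h.transpose * J * h.map σ) = (h⁻¹).transpose * J := by rw [hJh]
    rw [← mul_assoc, ← mul_assoc, e1, one_mul] at e2
    rw [mul_assoc, ← e2, ← mul_assoc, hJJ', one_mul]
  have hG2 : aeval (h⁻¹) G = 0 := by
    rw [hhσ, ufr_aeval_conj J J⁻¹ _ hJJ hJJ', ufr_aeval_transpose] at hG1
    have e3 : J * (J⁻¹ * (aeval h⁻¹ G).transpose * J) * J⁻¹ = 0 := by rw [hG1]; simp
    have e4 : J * (J⁻¹ * (aeval h⁻¹ G).transpose * J) * J⁻¹ = (aeval h⁻¹ G).transpose := by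
      calc J * (J⁻¹ * (aeval h⁻¹ G).transpose * J) * J⁻¹
          = (J * J⁻¹) * (aeval h⁻¹ G).transpose * (J * J⁻¹) := by simp only [Matrix.mul_assoc]
        _ = (aeval h⁻¹ G).transpose := by rw [hJJ, Matrix.one_mul, Matrix.mul_one]
    rw [e4] at e3
    have := congrArg Matrix.transpose e3
    simpa using this
  refine ⟨G.reverse, ufr_aeval_reverse h h⁻¹ hhh G hG2, ?_⟩
  intro K _ _ α hα hroot
  -- characteristic
  obtain ⟨p, hp⟩ := CharP.exists F
  haveI := hp
  obtain ⟨e, hpr, hcard⟩ := FiniteField.card F p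
  haveI : Fact p.Prime := ⟨hpr⟩
  have hq0 : ∃ j : ℕ, q₀ = p ^ j := by
    have h1 : q₀ ∣ p ^ (e : ℕ) := by
      rw [← hcard, hq]
      exact dvd_pow_self q₀ two_ne_zero
    obtain ⟨j, -, hj⟩ := (Nat.dvd_prime_pow hpr).1 h1
    exact ⟨j, hj⟩
  obtain ⟨j, hj⟩ := hq0
  haveI : CharP K p := charP_of_injective_algebraMap (algebraMap F K).injective p
  -- evaluate at `α⁻¹`
  have hinv : eval₂ (algebraMap F K) (α⁻¹) G = 0 := by
    haveI : Invertible (α⁻¹) := invertibleOfNonzero (inv_ne_zero hα)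
    have e1 : (⅟ (α⁻¹) : K) = α := by
      rw [invOf_eq_inv, inv_inv]
    have e2 := (Polynomial.eval₂_reverse_eq_zero_iff (algebraMap F K) (α⁻¹) G).1
    rw [e1] at e2
    exact e2 hroot
  -- apply the `q₀`-power Frobenius of `K`
  have e5 := congrArg (iterateFrobenius K p j) hinv
  rw [map_zero, Polynomial.hom_eval₂, hGdef, Polynomial.eval₂_map] at e5
  have e6 : ((iterateFrobenius K p j).comp (algebraMap F K)).comp (σ : F →+* F)
      = algebraMap F K := by
    ext t
    simp only [RingHom.comp_apply, iterateFrobenius_def, RingEquiv.coe_toRingHom]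
    rw [hσ, ← hj, ← map_pow, ← pow_mul, ← sq, ← hq, FiniteField.pow_card]
  rw [e6, iterateFrobenius_def, ← hj, inv_pow] at e5
  rw [Polynomial.aeval_def]
  exact e5

end adj

end Cfsg.Agent.Helper69
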